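import Mathlib
import Cfsg.Agent.Lib.Cores

/-!
# Classes of involutions with a small weak closure (helper204, for S3126)

`D` is a conjugation invariant set of involutions such that the product of two distinct commuting members of `D` is in
`D`, and the members of `D` commuting with `d ∈ D` generate a 2-group `Wc D d` of class at most 2.

* `WC D` : the hypothesis; it is inherited by subgroups (`WC.comap`) and transported by isomorphisms (`WC.map_equiv`);
* `WC.eq_of_odd` : two members of `D ∩ C(d)` whose product has odd order are equal;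
* `WC.comm_mem`, `WC.der` : the nontrivial elements of `[Wc D d, Wc D d]` are in `D`.
-/

set_option autoImplicit false
set_option linter.unusedSectionVars false

namespace Cfsg.Agent.H204.RI

open Subgroup
open scoped commutatorElement

variable {G : Type*} [Group G]

/-- the subgroup generated by the members of `D` commuting with `d` -/
def Wc (D : Set G) (d : G) : Subgroup G := Subgroup.closure {y : G | y ∈ D ∧ Commute y d}

/-- the hypothesis (a), (b) of S3126 for a conjugation invariant set of involutions -/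
structure WC (D : Set G) : Prop where
  inv : ∀ d ∈ D, orderOf d = 2
  conj : ∀ d ∈ D, ∀ g : G, g * d * g⁻¹ ∈ D
  two : ∀ d ∈ D, IsPGroup 2 (Wc D d)
  cl : ∀ d ∈ D, ⁅⁅Wc D d, Wc D d⁆, Wc D d⁆ = ⊥
  mul : ∀ a ∈ D, ∀ b ∈ D, a ≠ b → Commute a b → a * b ∈ D

theorem mem_Wc {D : Set G} {d y : G} (hy : y ∈ D) (h : Commute y d) : y ∈ Wc D d :=
  Subgroup.subset_closure ⟨hy, h⟩

theorem Wc_le_centralizer (D : Set G) (d : G) : Wc D d ≤ centralizer ({d} : Set G) := by
  unfold Wc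
  rw [Subgroup.closure_le]
  rintro y ⟨-, hy⟩
  exact mem_centralizer_singleton_iff.2 hy

theorem Wc_comm {D : Set G} {d x : G} (hx : x ∈ Wc D d) : Commute x d :=
  mem_centralizer_singleton_iff.1 (Wc_le_centralizer D d hx)

namespace WC

variable {D : Set G} (h : WC D)
include h

theorem sq {d : G} (hd : d ∈ D) : d * d = 1 := by
  have := pow_orderOf_eq_one d
  rwa [h.inv d hd, pow_two] at this

theorem ne_one {d : G} (hd : d ∈ D) : d ≠ 1 := by
  rintro rfl
  have := h.inv 1 hd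
  rw [orderOf_one] at this
  omega

theorem inv_eq {d : G} (hd : d ∈ D) : d⁻¹ = d := inv_eq_of_mul_eq_one_left (h.sq hd)

theorem self_mem {d : G} (hd : d ∈ D) : d ∈ Wc D d := mem_Wc hd (Commute.refl d)

theorem conj' {d : G} (hd : d ∈ D) (g : G) : g⁻¹ * d * g ∈ D := by
  have := h.conj d hd g⁻¹
  rwa [inv_inv] at this

theorem conj_Wc {d c x : G} (hc : c * d = d * c) (hx : x ∈ Wc D d) : c * x * c⁻¹ ∈ Wc D d := by
  have key : Wc D d ≤ (Wc D d).comap (MulAut.conj c).toMonoidHom := by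
    conv_lhs => unfold Wc
    rw [Subgroup.closure_le]
    rintro y ⟨hy, hyd⟩
    refine mem_Wc (h.conj y hy c) ?_
    show c * y * c⁻¹ * d = d * (c * y * c⁻¹)
    have h1 : c⁻¹ * d = d * c⁻¹ := by
      rw [inv_mul_eq_iff_eq_mul, ← mul_assoc, hc, mul_inv_cancel_right]
    have h2 : y * d = d * y := hyd
    calc c * y * c⁻¹ * d = c * y * (c⁻¹ * d) := by group
      _ = c * (y * d) * c⁻¹ := by rw [h1]; group
      _ = c * d * y * c⁻¹ := by rw [h2]; group
      _ = d * (c * y * c⁻¹) := by rw [hc]; group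
  exact key hx

/-- two members of `D` commuting with `d ∈ D` whose product has odd order are equal -/
theorem eq_of_odd {d a b : G} (hd : d ∈ D) (ha : a ∈ D) (hb : b ∈ D) (had : Commute a d) (hbd : Commute b d)
    {n : ℕ} (hn : Odd n) (hab : (a * b) ^ n = 1) : a = b := by
  have h1 : a * b ∈ Wc D d := mul_mem (mem_Wc ha had) (mem_Wc hb hbd)
  obtain ⟨k, hk⟩ := h.two d hd ⟨a * b, h1⟩
  have hk' : (a * b) ^ 2 ^ k = 1 := by simpa using congrArg Subtype.val hk
  have h2 := Nat.dvd_gcd (orderOf_dvd_of_pow_eq_one hab) (orderOf_dvd_of_pow_eq_one hk')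
  have h3 : Nat.gcd n (2 ^ k) = 1 := Nat.Coprime.pow_right _ (Nat.coprime_two_right.2 hn)
  rw [h3, Nat.dvd_one, orderOf_eq_one_iff] at h2
  rw [← h.inv_eq hb]
  exact eq_inv_of_mul_eq_one_left h2

/-- an element of `[W, W]` commutes with `W` -/
theorem comm_of_der {z x w : G} (hz : z ∈ D) (hx : x ∈ ⁅Wc D z, Wc D z⁆) (hw : w ∈ Wc D z) : x * w = w * x := by
  have h1 : ⁅x, w⁆ ∈ ⁅⁅Wc D z, Wc D z⁆, Wc D z⁆ := commutator_mem_commutator hx hw
  rw [h.cl z hz, mem_bot] at h1
  exact commutatorElement_eq_one_iff_mul_comm.1 h1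

/-- the commutator of two members of `D ∩ C(z)` is trivial or in `D` -/
theorem comm_mem {z a b : G} (hz : z ∈ D) (ha : a ∈ D) (hb : b ∈ D) (haz : Commute a z) (hbz : Commute b z) :
    ⁅a, b⁆ = 1 ∨ ⁅a, b⁆ ∈ D := by
  by_cases h1 : ⁅a, b⁆ = 1
  · exact Or.inl h1
  right
  have haW := mem_Wc ha haz
  have hbW := mem_Wc hb hbz
  have h2 : ⁅a, b⁆ ∈ ⁅Wc D z, Wc D z⁆ := commutator_mem_commutator haW hbW
  have h3 : ⁅a, b⁆ * a = a * ⁅a, b⁆ := h.comm_of_der hz h2 haW
  have e : ⁅a, b⁆ = a * (b * a * b⁻¹) := by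
    rw [commutatorElement_def, h.inv_eq ha, h.inv_eq hb]; group
  have hc : Commute a (b * a * b⁻¹) := by
    have e2 : b * a * b⁻¹ = a * ⁅a, b⁆ := by
      rw [e, ← mul_assoc, h.sq ha, one_mul]
    show a * (b * a * b⁻¹) = (b * a * b⁻¹) * a
    rw [e2, mul_assoc, h3]
  rw [e]
  refine h.mul a ha _ (h.conj a ha b) ?_ hc
  intro h4
  apply h1
  rw [e, ← h4]
  exact h.sq ha

/-- the subgroup formed by `1` and the members of `D` central in `Wc D z` -/
def Ec (z : G) (_ : z ∈ D) : Subgroup G where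
  carrier := {x | (x = 1 ∨ x ∈ D) ∧ x ∈ Wc D z ∧ ∀ w ∈ Wc D z, x * w = w * x}
  one_mem' := ⟨Or.inl rfl, one_mem _, fun w _ => by rw [one_mul, mul_one]⟩
  mul_mem' := by
    rintro x y ⟨hx, hxW, hxc⟩ ⟨hy, hyW, hyc⟩
    refine ⟨?_, mul_mem hxW hyW, fun w hw => by rw [mul_assoc, hyc w hw, ← mul_assoc, hxc w hw, mul_assoc]⟩
    rcases hx with rfl | hx
    · rw [one_mul]; exact hy
    rcases hy with rfl | hy
    · rw [mul_one]; exact Or.inr hx
    by_cases hxy : x = y
    · left; rw [hxy]; exact h.sq hy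
    · right; exact h.mul x hx y hy hxy (hxc y hyW)
  inv_mem' := by
    rintro x ⟨hx, hxW, hxc⟩
    have : x⁻¹ = x := by
      rcases hx with rfl | hx
      · exact inv_one
      · exact h.inv_eq hx
    rw [this]; exact ⟨hx, hxW, hxc⟩

theorem mem_Ec {z x : G} {hz : z ∈ D} : x ∈ h.Ec z hz ↔ (x = 1 ∨ x ∈ D) ∧ x ∈ Wc D z ∧ ∀ w ∈ Wc D z, x * w = w * x :=
  Iff.rfl

theorem self_mem_Ec {z : G} (hz : z ∈ D) : z ∈ h.Ec z hz :=
  ⟨Or.inr hz, h.self_mem hz, fun _ hw => (Wc_comm hw).eq.symm⟩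

/-- `[W, W] ≤ E(z)` -/
theorem der_le {z : G} (hz : z ∈ D) : ⁅Wc D z, Wc D z⁆ ≤ h.Ec z hz := by
  have hmem : ∀ x ∈ h.Ec z hz, ∀ w ∈ Wc D z, w * x * w⁻¹ = x := by
    rintro x ⟨-, -, hc⟩ w hw
    rw [← hc w hw, mul_inv_cancel_right]
  -- first: `[a, w] ∈ E` for `a` a generator and `w ∈ W`
  have key1 : ∀ a ∈ {y : G | y ∈ D ∧ Commute y z}, ∀ w ∈ Wc D z, ⁅a, w⁆ ∈ h.Ec z hz := by
    rintro a ⟨ha, haz⟩ w hw
    have haW := mem_Wc ha haz
    unfold Wc at hw
    induction hw using Subgroup.closure_induction with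
    | mem b hb =>
      refine ⟨h.comm_mem hz ha hb.1 haz hb.2, ?_, fun w hw =>
        h.comm_of_der hz (commutator_mem_commutator haW (mem_Wc hb.1 hb.2)) hw⟩
      have hbW := mem_Wc hb.1 hb.2
      rw [commutatorElement_def]
      exact mul_mem (mul_mem (mul_mem haW hbW) (inv_mem haW)) (inv_mem hbW)
    | one => rw [commutatorElement_one_right]; exact one_mem _
    | mul x y hx hy ihx ihy =>
      have e : ⁅a, x * y⁆ = ⁅a, x⁆ * (x * ⁅a, y⁆ * x⁻¹) := by
        simp only [commutatorElement_def]; group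
      rw [e, hmem _ ihy x hx]
      exact mul_mem ihx ihy
    | inv x hx ih =>
      have e : ⁅a, x⁻¹⁆ = x⁻¹ * ⁅a, x⁆⁻¹ * x⁻¹⁻¹ := by
        simp only [commutatorElement_def]; group
      rw [e, hmem _ (inv_mem ih) x⁻¹ (inv_mem hx)]
      exact inv_mem ih
  rw [commutator_le]
  intro v hv w hw
  have hv' := hv
  unfold Wc at hv'
  induction hv' using Subgroup.closure_induction with
  | mem a ha => exact key1 a ha w hw
  | one => rw [commutatorElement_one_left]; exact one_mem _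
  | mul x y hx hy ihx ihy =>
    have e : ⁅x * y, w⁆ = (x * ⁅y, w⁆ * x⁻¹) * ⁅x, w⁆ := by
      simp only [commutatorElement_def]; group
    rw [e, hmem _ (ihy hy) x hx]
    exact mul_mem (ihy hy) (ihx hx)
  | inv x hx ih =>
    have e : ⁅x⁻¹, w⁆ = x⁻¹ * ⁅x, w⁆⁻¹ * x⁻¹⁻¹ := by
      simp only [commutatorElement_def]; group
    rw [e, hmem _ (inv_mem (ih hx)) x⁻¹ (inv_mem hx)]
    exact inv_mem (ih hx)

/-- the nontrivial elements of `[W, W]` are in `D` -/
theorem der {z x : G} (hz : z ∈ D) (hx : x ∈ ⁅Wc D z, Wc D z⁆) (hx1 : x ≠ 1) : x ∈ D :=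
  ((h.mem_Ec).1 (h.der_le hz hx)).1.resolve_left hx1

/-- restriction to a subgroup -/
theorem comap (H : Subgroup G) : WC {x : H | (x : G) ∈ D} := by
  have hmap : ∀ d : H, (Wc {x : H | (x : G) ∈ D} d).map H.subtype ≤ Wc D (d : G) := by
    intro d
    unfold Wc
    rw [MonoidHom.map_closure, Subgroup.closure_le]
    rintro _ ⟨y, ⟨hy, hyd⟩, rfl⟩
    exact Subgroup.subset_closure ⟨hy, congrArg Subtype.val hyd.eq⟩
  refine ⟨fun d hd => ?_, fun d hd g => ?_, fun d hd => ?_, fun d hd => ?_, fun a ha b hb hab hc => ?_⟩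
  · have := h.inv d hd
    rwa [← Subgroup.orderOf_coe] 
  · exact h.conj (d : G) hd (g : G)
  · rintro ⟨x, hx⟩
    have h1 : (x : G) ∈ Wc D (d : G) := hmap d ⟨x, hx, rfl⟩
    obtain ⟨k, hk⟩ := h.two d hd ⟨x, h1⟩
    refine ⟨k, Subtype.ext (Subtype.ext ?_)⟩
    simpa using congrArg Subtype.val hk
  · have h1 := h.cl d hd
    apply Subgroup.map_injective H.subtype_injective
    rw [map_commutator, map_commutator, Subgroup.map_bot, eq_bot_iff]
    calc _ ≤ ⁅⁅Wc D (d : G), Wc D (d : G)⁆, Wc D (d : G)⁆ :=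
          commutator_mono (commutator_mono (hmap d) (hmap d)) (hmap d)
      _ = ⊥ := h1
  · exact h.mul a ha b hb (fun e => hab (Subtype.ext e)) (congrArg Subtype.val hc.eq)

/-- transport by an isomorphism -/
theorem map_equiv {H : Type*} [Group H] (e : G ≃* H) : WC (e '' D) := by
  have hmap : ∀ d : G, Wc (e '' D) (e d) = (Wc D d).map e.toMonoidHom := by
    intro d
    unfold Wc
    rw [MonoidHom.map_closure]
    congr 1
    ext y
    constructor
    · rintro ⟨⟨x, hx, rfl⟩, hy⟩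
      exact ⟨x, ⟨hx, by
        have := hy.eq
        rw [← map_mul, ← map_mul] at this
        exact e.injective this⟩, rfl⟩
    · rintro ⟨x, ⟨hx, hxd⟩, rfl⟩
      refine ⟨⟨x, hx, rfl⟩, ?_⟩
      show e x * e d = e d * e x
      rw [← map_mul, hxd.eq, map_mul]
  refine ⟨?_, ?_, ?_, ?_, ?_⟩
  · rintro _ ⟨d, hd, rfl⟩
    rw [MulEquiv.orderOf_eq]
    exact h.inv d hd
  · rintro _ ⟨d, hd, rfl⟩ g
    refine ⟨e.symm g * d * (e.symm g)⁻¹, h.conj d hd _, ?_⟩
    simp
  · rintro _ ⟨d, hd, rfl⟩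
    rw [hmap]
    exact (h.two d hd).map _
  · rintro _ ⟨d, hd, rfl⟩
    rw [hmap, ← map_commutator, ← map_commutator, h.cl d hd, Subgroup.map_bot]
  · rintro _ ⟨a, ha, rfl⟩ _ ⟨b, hb, rfl⟩ hab hc
    refine ⟨a * b, h.mul a ha b hb (fun h1 => hab (by rw [h1])) ?_, map_mul _ _ _⟩
    have := hc.eq
    rw [← map_mul, ← map_mul] at this
    exact e.injective this

end WC

end Cfsg.Agent.H204.RI
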