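import Cfsg.Agent.H204.RI.Base
import Cfsg.Agent.Characters.CNBasic

/-!
# `D` consists of 2-central involutions (helper204, for S3126)
-/

set_option autoImplicit false
set_option linter.unusedSectionVars false

namespace Cfsg.Agent.H204.RI

open Subgroup
open scoped commutatorElement

variable {G : Type*} [Group G] {D : Set G}

namespace WC

variable (h : WC D)
include h

theorem isPGroup_Ec {z : G} (hz : z ∈ D) : IsPGroup 2 (h.Ec z hz) := by
  rintro ⟨x, hx⟩
  refine ⟨1, Subtype.ext ?_⟩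
  show x ^ 2 ^ 1 = 1
  rw [pow_one, pow_two]
  rcases ((h.mem_Ec).1 hx).1 with rfl | h1
  · rw [mul_one]
  · exact h.sq h1

/-- an element normalising a subgroup `P` with `Wc D z ≤ P ≤ C(z)` normalises `Wc D z` -/
theorem conj_Wc_of_norm {z n x : G} {P : Subgroup G} (hWP : Wc D z ≤ P) (hP : ∀ p ∈ P, p * z = z * p)
    (hn : ∀ p ∈ P, n * p * n⁻¹ ∈ P) (hx : x ∈ Wc D z) : n * x * n⁻¹ ∈ Wc D z := by
  have key : Wc D z ≤ (Wc D z).comap (MulAut.conj n).toMonoidHom := by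
    conv_lhs => unfold Wc
    rw [Subgroup.closure_le]
    rintro y ⟨hy, hyd⟩
    exact mem_Wc (h.conj y hy n) (hP _ (hn y (hWP (mem_Wc hy hyd))))
  exact key hx

theorem conj_Ec_of_norm {z n x : G} (hz : z ∈ D) {P : Subgroup G} (hWP : Wc D z ≤ P) (hP : ∀ p ∈ P, p * z = z * p)
    (hn : ∀ p ∈ P, n * p * n⁻¹ ∈ P) (hn' : ∀ p ∈ P, n⁻¹ * p * n ∈ P) (hx : x ∈ h.Ec z hz) :
    n * x * n⁻¹ ∈ h.Ec z hz := by
  obtain ⟨h1, h2, h3⟩ := (h.mem_Ec).1 hx
  refine (h.mem_Ec).2 ⟨?_, h.conj_Wc_of_norm hWP hP hn h2, fun w hw => ?_⟩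
  · rcases h1 with rfl | h1
    · left; rw [mul_one, mul_inv_cancel]
    · exact Or.inr (h.conj x h1 n)
  · have h4 : n⁻¹ * w * n ∈ Wc D z := by
      have := h.conj_Wc_of_norm (n := n⁻¹) hWP hP (fun p hp => by rw [inv_inv]; exact hn' p hp) hw
      rwa [inv_inv] at this
    have h5 := h3 _ h4
    calc n * x * n⁻¹ * w = n * (x * (n⁻¹ * w * n)) * n⁻¹ := by group
      _ = n * (n⁻¹ * w * n * x) * n⁻¹ := by rw [h5]
      _ = w * (n * x * n⁻¹) := by group

/-- **`D` consists of 2-central involutions.** -/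
theorem exists_sylow [Finite G] (hcls : ∀ a ∈ D, ∀ b ∈ D, ∃ g : G, g * a * g⁻¹ = b) {z : G} (hz : z ∈ D) :
    ∃ T : Sylow 2 G, z ∈ T ∧ ∀ t ∈ T, t * z = z * t := by
  have : Fact (Nat.Prime 2) := ⟨Nat.prime_two⟩
  let C : Subgroup G := centralizer ({z} : Set G)
  obtain ⟨S⟩ : Nonempty (Sylow 2 C) := inferInstance
  let P : Subgroup G := (S : Subgroup C).map C.subtype
  have hPp : IsPGroup 2 P := S.isPGroup'.map _
  have hPC : ∀ p ∈ P, p * z = z * p := by
    rintro _ ⟨p, -, rfl⟩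
    exact mem_centralizer_singleton_iff.1 p.2
  have hWn : ((Wc D z).subgroupOf C).Normal := by
    constructor
    intro x hx g
    exact h.conj_Wc (mem_centralizer_singleton_iff.1 g.2) hx
  have hWP : Wc D z ≤ P := by
    have h1 : IsPGroup 2 ((Wc D z).subgroupOf C) := (h.two z hz).comap_subtype
    have h2 : (Wc D z).subgroupOf C ≤ (S : Subgroup C) := h1.le_sylow_of_normal S
    intro x hx
    exact ⟨⟨x, Wc_le_centralizer D z hx⟩, h2 hx, rfl⟩
  obtain ⟨T, hPT⟩ := hPp.exists_le_sylow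
  by_cases hTP : (T : Subgroup G) ≤ P
  · exact ⟨T, hPT (hWP (h.self_mem hz)), fun t ht => hPC t (hTP ht)⟩
  exfalso
  -- the normaliser grows
  have hlt : P.subgroupOf (T : Subgroup G) < ⊤ := by
    rw [lt_top_iff_ne_top]
    intro h1
    exact hTP (subgroupOf_eq_top.1 h1)
  have hnil : Group.IsNilpotent (T : Subgroup G) := T.isPGroup'.isNilpotent
  have hgrow := Group.normalizerCondition_of_isNilpotent (P.subgroupOf (T : Subgroup G)) hlt
  obtain ⟨n, hnN, hnP⟩ := SetLike.exists_of_lt hgrow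
  -- the subgroup `N = N_T(P)`
  let N : Subgroup G := (T : Subgroup G) ⊓ normalizer (P : Set G)
  have hNp : IsPGroup 2 N := T.isPGroup'.to_le inf_le_left
  have hPN : P ≤ N := le_inf hPT le_normalizer
  have hnN' : (n : G) ∈ N := by
    refine mem_inf.2 ⟨n.2, ?_⟩
    rw [mem_normalizer_iff] at hnN ⊢
    intro x
    constructor
    · intro hx
      have h1 : (⟨x, hPT hx⟩ : (T : Subgroup G)) ∈ P.subgroupOf (T : Subgroup G) := hx
      exact (hnN _).1 h1
    · intro hx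
      have hxT : x ∈ (T : Subgroup G) := by
        have h1 := (T : Subgroup G).mul_mem ((T : Subgroup G).mul_mem (inv_mem n.2) (hPT hx)) n.2
        have e : (n : G)⁻¹ * (n * x * (n : G)⁻¹) * n = x := by group
        rwa [e] at h1
      exact (hnN ⟨x, hxT⟩).2 hx
  have hNn : ∀ m ∈ N, ∀ p ∈ P, m * p * m⁻¹ ∈ P := fun m hm p hp => (mem_normalizer_iff.1 (mem_inf.1 hm).2 p).1 hp
  have hE1 : h.Ec z hz ≠ ⊥ := by
    intro h1
    have h2 := h.self_mem_Ec hz
    rw [h1, mem_bot] at h2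
    exact h.ne_one hz h2
  obtain ⟨e, heE, he1, heN⟩ := Characters.CNBasic.exists_mem_center_of_normal N hNp (h.Ec z hz) (h.isPGroup_Ec hz) hE1
    (fun m hm x hx => h.conj_Ec_of_norm hz hWP hPC (hNn m hm) (fun p hp => by
      have := hNn m⁻¹ (inv_mem hm) p hp
      rwa [inv_inv] at this) hx)
  have heD : e ∈ D := ((h.mem_Ec).1 heE).1.resolve_left he1
  obtain ⟨g, hg⟩ := hcls e heD z hz
  -- `|N|` divides `|C(e)| = |C(z)|`
  have h1 : Nat.card N ∣ Nat.card C := by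
    have h2 : N.map (MulAut.conj g).toMonoidHom ≤ C := by
      rintro _ ⟨m, hm, rfl⟩
      rw [mem_centralizer_singleton_iff]
      show g * m * g⁻¹ * z = z * (g * m * g⁻¹)
      rw [← hg]
      calc g * m * g⁻¹ * (g * e * g⁻¹) = g * (m * e) * g⁻¹ := by group
        _ = g * (e * m) * g⁻¹ := by rw [heN m hm]
        _ = g * e * g⁻¹ * (g * m * g⁻¹) := by group
    have h3 := card_dvd_of_le h2
    rwa [← Nat.card_congr (N.equivMapOfInjective _ (MulAut.conj g).injective).toEquiv] at h3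
  have h2 : Nat.card P = 2 ^ (Nat.card C).factorization 2 := by
    rw [← Nat.card_congr ((S : Subgroup C).equivMapOfInjective _ C.subtype_injective).toEquiv]
    exact S.card_eq_multiplicity
  obtain ⟨k, hk⟩ := IsPGroup.iff_card.1 hNp
  have h3 : Nat.card N ∣ Nat.card P := by
    rw [h2, hk]
    rw [hk] at h1
    exact (Nat.pow_dvd_pow_iff_le_right (by norm_num)).2 ((Nat.Prime.pow_dvd_iff_le_factorization Nat.prime_two
      Nat.card_pos.ne').1 h1)
  have h4 : P = N := eq_of_le_of_card_ge hPN (Nat.le_of_dvd Nat.card_pos h3)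
  apply hnP
  show (n : G) ∈ P
  rw [h4]; exact hnN'

/-- every Sylow 2-subgroup has a central element in `D` -/
theorem exists_central [Finite G] (hne : D.Nonempty) (hcls : ∀ a ∈ D, ∀ b ∈ D, ∃ g : G, g * a * g⁻¹ = b)
    (S : Sylow 2 G) : ∃ z ∈ D, z ∈ S ∧ ∀ t ∈ S, t * z = z * t := by
  have : Fact (Nat.Prime 2) := ⟨Nat.prime_two⟩
  obtain ⟨z, hz⟩ := hne
  obtain ⟨T, hzT, hT⟩ := h.exists_sylow hcls hz
  obtain ⟨g, hg⟩ := MulAction.exists_smul_eq G T S
  have hmem : ∀ x, x ∈ (S : Subgroup G) ↔ g⁻¹ * x * g ∈ (T : Subgroup G) := by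
    intro x
    rw [← hg, Sylow.coe_subgroup_smul, Subgroup.mem_pointwise_smul_iff_inv_smul_mem]
    rw [← map_inv]
    show (MulAut.conj g⁻¹) x ∈ _ ↔ _
    rw [MulAut.conj_apply, inv_inv]
  refine ⟨g * z * g⁻¹, h.conj z hz g, ?_, fun t ht => ?_⟩
  · show g * z * g⁻¹ ∈ (S : Subgroup G)
    rw [hmem]
    have e : g⁻¹ * (g * z * g⁻¹) * g = z := by group
    rw [e]; exact hzT
  · have h1 := hT _ ((hmem t).1 ht)
    calc t * (g * z * g⁻¹) = g * (g⁻¹ * t * g * z) * g⁻¹ := by group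
      _ = g * (z * (g⁻¹ * t * g)) * g⁻¹ := by rw [h1]
      _ = g * z * g⁻¹ * t := by group

end WC

end Cfsg.Agent.H204.RI
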