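import Mathlib
import Cfsg.Agent.Lib.Cores
import Cfsg.Agent.Lib.ThompsonPQ
import Cfsg.Agent.Lib.ComponentSolvable
import Cfsg.Agent.SignalizersComponents.Components

/-!
# No components in centralizers of 2-elements in groups of characteristic 2

Copied from the section `QTKE.LongEven` of `Cfsg/Agent/QTKE/Final.lean` (helper29), to keep the import closure small.
-/

set_option autoImplicit false

namespace Cfsg.Agent.H204.RI.Comp

open Cfsg Subgroup Cfsg.Agent.SignalizersComponents.Components

/-- a normal subgroup of a finite perfect group containing the elements of odd order is everything -/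
theorem eq_top_of_odd {J : Type*} [Group J] [Finite J] (hJ : Group.IsPerfect J) (N : Subgroup J) [N.Normal]
    (h : ∀ x : J, Odd (orderOf x) → x ∈ N) : N = ⊤ := by
  have hp : IsPGroup 2 (J ⧸ N) := by
    intro q
    obtain ⟨x, rfl⟩ := QuotientGroup.mk'_surjective N q
    obtain ⟨k, m, hm, hkm⟩ := Nat.exists_eq_two_pow_mul_odd (orderOf_pos x).ne'
    refine ⟨k, ?_⟩
    rw [← map_pow, QuotientGroup.mk'_apply, QuotientGroup.eq_one_iff]
    apply h
    rw [orderOf_pow, hkm, Nat.gcd_eq_right (dvd_mul_right _ _), Nat.mul_div_cancel_left _ (by positivity)]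
    exact hm
  have : Fact (Nat.Prime 2) := ⟨Nat.prime_two⟩
  have hn : Group.IsNilpotent (J ⧸ N) := hp.isNilpotent
  have hs : Group.IsSolvable (J ⧸ N) := inferInstance
  by_contra hne
  have hnt : Nontrivial (J ⧸ N) := QuotientGroup.nontrivial_iff.2 hne
  have h1 : commutator (J ⧸ N) = ⊤ := by
    rw [Group.isPerfect_def, commutator_def] at hJ
    rw [commutator_def, ← map_top_of_surjective _ (QuotientGroup.mk'_surjective N), ← map_commutator, hJ]
  exact (Group.IsSolvable.commutator_lt_top_of_nontrivial (J ⧸ N)).ne h1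

variable {X : Type*} [Group X]

/-- **No components in centralizers of 2-elements in groups of characteristic 2.** -/
theorem comp_false [Finite X] {D : Subgroup X} (hD : IsOfCharacteristicTwo D) {t : X} (ht : IsPGroup 2 (zpowers t))
    (htD : t ∈ D) {J : Subgroup X} (hJD : J ≤ D) (hJt : J ≤ centralizer ({t} : Set X))
    (hs : (J.subgroupOf (centralizer ({t} : Set X))).IsSubnormal) (hq : IsQuasisimple J) : False := by
  have : Fact (Nat.Prime 2) := ⟨Nat.prime_two⟩
  have hP : IsPGroup 2 (pCore 2 D) := Cfsg.Agent.Lib.Cores.pCore_isPGroup (p := 2)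
  have hPn : (pCore 2 D).Normal := pCore_normal 2 D
  let U : Subgroup X := (pCore 2 D).map D.subtype
  have hU : IsPGroup 2 U := hP.map _
  have hUD : ∀ d ∈ D, ∀ u ∈ U, d * u * d⁻¹ ∈ U := by
    rintro d hd _ ⟨u, hu, rfl⟩
    exact ⟨⟨d, hd⟩ * u * ⟨d, hd⟩⁻¹, hPn.conj_mem u hu _, rfl⟩
  have hDU : D ≤ normalizer (U : Set X) := by
    intro d hd
    rw [mem_normalizer_iff]
    intro u
    refine ⟨hUD d hd u, fun h => ?_⟩
    have := hUD d⁻¹ (inv_mem hd) _ h
    rwa [show d⁻¹ * (d * u * d⁻¹) * d⁻¹⁻¹ = u by group] at this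
  have key1 : ∀ u ∈ U, u ∈ centralizer ({t} : Set X) → ∀ x ∈ J, x * u = u * x := by
    intro u hu hut x hx
    have hc : IsComponent (J.subgroupOf (centralizer ({t} : Set X))) :=
      ⟨hs, isQuasisimple_of_mulEquiv (subgroupOfEquivOfLe hJt).symm hq⟩
    have hR : IsPGroup 2 (U.subgroupOf (centralizer ({t} : Set X))) := hU.comap_subtype
    have hRs : Group.IsSolvable (U.subgroupOf (centralizer ({t} : Set X))) := by
      have := hR.isNilpotent
      infer_instance
    have h1 := Cfsg.Agent.Lib.ComponentSolvable.commutator_component_solvable_eq_bot hc hRs (by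
      intro y hy
      have hyD : (y : X) ∈ D := hJD (mem_subgroupOf.1 hy)
      rw [mem_normalizer_iff]
      intro r
      rw [mem_subgroupOf, mem_subgroupOf]
      exact mem_normalizer_iff.1 (hDU hyD) r)
    have h2 := (commutator_eq_bot_iff_le_centralizer.1 h1) (x := ⟨x, hJt hx⟩) (mem_subgroupOf.2 hx)
    have h3 := mem_centralizer_iff.1 h2 ⟨u, hut⟩ (mem_subgroupOf.2 hu)
    exact (congrArg Subtype.val h3).symm
  have key2 : ∀ y ∈ J, Odd (orderOf y) → y ∈ centralizer (U : Set X) := by
    intro y hy hyo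
    have h1 : zpowers y ≤ centralizer (U : Set X) := by
      refine Cfsg.Agent.Lib.ThompsonPQ.thompson_p_times_q 2 (zpowers t) (zpowers y) U ht ?_ hU ?_ ?_ ?_ ?_
      · rw [Nat.card_zpowers]
        exact Nat.coprime_two_right.2 hyo
      · rw [zpowers_le, mem_centralizer_iff]
        rintro z hz
        obtain ⟨k, rfl⟩ := mem_zpowers_iff.1 hz
        have h2 : Commute y t := (mem_centralizer_singleton_iff.1 (hJt hy))
        exact (h2.zpow_left k)
      · rw [zpowers_le]
        exact hDU htD
      · rw [zpowers_le]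
        exact hDU (hJD hy)
      · intro u hu
        obtain ⟨hu1, hu2⟩ := mem_inf.1 hu
        have hut : u ∈ centralizer ({t} : Set X) :=
          mem_centralizer_singleton_iff.2 (mem_centralizer_iff.1 hu2 t (mem_zpowers t)).symm
        rw [mem_centralizer_iff]
        intro z hz
        obtain ⟨k, rfl⟩ := mem_zpowers_iff.1 hz
        exact (Commute.zpow_left (key1 u hu1 hut y hy) k)
    exact h1 (mem_zpowers y)
  have hN : ((centralizer (U : Set X)).subgroupOf J).Normal := by
    constructor
    intro c hc g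
    rw [mem_subgroupOf] at hc ⊢
    rw [mem_centralizer_iff] at hc ⊢
    intro u hu
    have h1 : (g : X)⁻¹ * u * g ∈ U := by
      have := hUD _ (inv_mem (hJD g.2)) u hu
      rwa [inv_inv] at this
    have h2 := hc _ h1
    change u * ((g : X) * c * (g : X)⁻¹) = (g : X) * c * (g : X)⁻¹ * u
    calc u * ((g : X) * c * (g : X)⁻¹) = (g : X) * (((g : X)⁻¹ * u * g) * c) * (g : X)⁻¹ := by group
      _ = (g : X) * (c * ((g : X)⁻¹ * u * g)) * (g : X)⁻¹ := by rw [h2]
      _ = _ := by group
  have h3 := eq_top_of_odd hq.1 ((centralizer (U : Set X)).subgroupOf J) (fun x hx => by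
    rw [mem_subgroupOf]
    exact key2 x x.2 (by rwa [Subgroup.orderOf_coe]))
  have h4 : J ≤ centralizer (U : Set X) := subgroupOf_eq_top.1 h3
  have h5 : J.subgroupOf D ≤ pCore 2 D := by
    refine le_trans ?_ hD
    intro x hx
    rw [mem_centralizer_iff]
    intro u hu
    exact Subtype.ext (mem_centralizer_iff.1 (h4 (mem_subgroupOf.1 hx)) u ⟨u, hu, rfl⟩)
  have h6 : IsPGroup 2 (J.subgroupOf D) := hP.to_le h5
  have h7 : IsPGroup 2 J := h6.of_equiv (subgroupOfEquivOfLe hJD)
  have h8 : Group.IsSolvable J := by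
    have := h7.isNilpotent
    infer_instance
  exact Cfsg.Agent.Lib.ComponentSolvable.quasisimple_not_solvable hq h8

end Cfsg.Agent.H204.RI.Comp
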