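import Cfsg.Agent.H204.RI.RankOne
import Cfsg.Agent.KFacts.MM.El
import Cfsg.Agent.KFacts.MM.InvM22
import Cfsg.Agent.J4.M24Invol
import Cfsg.Agent.CoThreeStd.MTwelveCent
import Cfsg.Agent.Cit.Eleven
import Cfsg.Agent.SporadicA.M11Facts

/-!
# The Mathieu groups (helper204, for S3126)

In each class of involutions there are `z`, `a`, `b` with `a`, `b ∈ C(z)` and `a b` of order three.
-/

set_option autoImplicit false
set_option linter.unusedSectionVars false

namespace Cfsg.Agent.H204.RI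

open Subgroup Cfsg
open Cfsg.Agent.SporadicA.GolayBase Cfsg.Agent.SporadicA.GolayPerm Cfsg.Agent.KFacts.MM.El
  Cfsg.Agent.SporadicStructure.M24El

/-- the words `g z g⁻¹`, `h z h⁻¹` commute with `z` and have a product of order three -/
def chkK (z g gi h hi : ℕ) : Bool :=
  okl [z, g, gi, h, hi] && weq [g, gi] [] && weq [h, hi] [] && weq [g, z, gi, z] [z, g, z, gi] &&
  weq [h, z, hi, z] [z, h, z, hi] &&
  weq [g, z, gi, h, z, hi, g, z, gi, h, z, hi, g, z, gi, h, z, hi] [] && !weq [g, z, gi] [h, z, hi]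

theorem WC.false_of_chk {H : Subgroup (Equiv.Perm GolayPt)} {D : Set H} (F : WC D) {z g gi h hi : ℕ}
    (hc : chkK z g gi h hi = true) (hz : pm z ∈ H) (hg : pm g ∈ H) (hh : pm h ∈ H) (hzD : (⟨pm z, hz⟩ : H) ∈ D) :
    False := by
  unfold chkK at hc
  simp only [Bool.and_eq_true, Bool.not_eq_true'] at hc
  obtain ⟨⟨⟨⟨⟨⟨h0, h1⟩, h2⟩, h3⟩, h4⟩, h5⟩, h6⟩ := hc
  simp only [okl, List.all_cons, List.all_nil, Bool.and_eq_true, and_true] at h0
  obtain ⟨oz, og, ogi, oh, ohi⟩ := h0
  have ok : ∀ l : List ℕ, (∀ x ∈ l, isPerm x = true) → okl l = true := by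
    intro l hl
    unfold okl
    rw [List.all_eq_true]
    exact hl
  have e1 := pr_of_weq (ok _ (by simp [og, ogi])) (ok [] (by simp)) h1
  have e2 := pr_of_weq (ok _ (by simp [oh, ohi])) (ok [] (by simp)) h2
  have e3 := pr_of_weq (ok _ (by simp [oz, og, ogi])) (ok _ (by simp [oz, og, ogi])) h3
  have e4 := pr_of_weq (ok _ (by simp [oz, oh, ohi])) (ok _ (by simp [oz, oh, ohi])) h4
  have e5 := pr_of_weq (ok _ (by simp [oz, og, ogi, oh, ohi])) (ok [] (by simp)) h5
  have e6 := pr_ne (ok _ (by simp [oz, og, ogi])) (ok _ (by simp [oz, oh, ohi])) h6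
  simp only [pr_cons, pr_nil, mul_one] at e1 e2 e3 e4 e5 e6
  have i1 : (pm g)⁻¹ = pm gi := inv_eq_of_mul_eq_one_right e1
  have i2 : (pm h)⁻¹ = pm hi := inv_eq_of_mul_eq_one_right e2
  rw [← i1] at e3 e5 e6
  rw [← i2] at e4 e5 e6
  set Z : H := ⟨pm z, hz⟩
  set A : H := ⟨pm g, hg⟩
  set B : H := ⟨pm h, hh⟩
  have hA := F.conj Z hzD A
  have hB := F.conj Z hzD B
  have c1 : Commute (A * Z * A⁻¹) Z := by
    apply Subtype.ext
    show pm g * pm z * (pm g)⁻¹ * pm z = pm z * (pm g * pm z * (pm g)⁻¹)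
    simpa only [mul_assoc] using e3
  have c2 : Commute (B * Z * B⁻¹) Z := by
    apply Subtype.ext
    show pm h * pm z * (pm h)⁻¹ * pm z = pm z * (pm h * pm z * (pm h)⁻¹)
    simpa only [mul_assoc] using e4
  have key := F.eq_of_odd hzD hA hB c1 c2 (n := 3) (by decide) (by
    apply Subtype.ext
    show (pm g * pm z * (pm g)⁻¹ * (pm h * pm z * (pm h)⁻¹)) ^ 3 = 1
    rw [← e5]
    simp only [pow_succ, pow_zero, one_mul, mul_assoc])
  apply e6
  have := congrArg Subtype.val key
  have h7 : pm g * pm z * (pm g)⁻¹ = pm h * pm z * (pm h)⁻¹ := this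
  simpa only [mul_assoc] using h7

/-! ### M22, M23, M24 -/

def zz : ℕ := Cfsg.Agent.KFacts.MM.Data.zP
def g22 : ℕ := 959865092880592799052612264075678848
def g22i : ℕ := 959368678938555590153320597299073632
def h22 : ℕ := 981569872694768676078467538330682432
def h22i : ℕ := 970379072414551139010924340576879680

theorem chk22 : chkK Cfsg.Agent.KFacts.MM.Data.zP g22 g22i h22 h22i = true := by decide +kernel

theorem mem22 {P : ℕ} (h : (isPerm P && isAut P && Nat.beq (papp P 23) 23 && Nat.beq (papp P 0) 0) = true) :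
    pm P ∈ Spor.M22 := by
  rw [Bool.and_eq_true, Bool.and_eq_true, Bool.and_eq_true] at h
  obtain ⟨⟨⟨h1, h2⟩, h3⟩, h4⟩ := h
  refine (SporadicA.MathieuRecog.mem_M22_iff _).2 ⟨pm_mem_M24 h1 h2, ?_, ?_⟩
  · have h5 := val_pm h1 (i := 23) (by norm_num)
    rw [Nat.eq_of_beq_eq_true h3] at h5
    have h6 := pt_val (pm P) 23
    rw [h5] at h6
    exact h6.symm
  · have h5 := val_pm h1 (i := 0) (by norm_num)
    rw [Nat.eq_of_beq_eq_true h4] at h5
    have h6 := pt_val (pm P) 0
    rw [h5] at h6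
    exact h6.symm

theorem m22_le_m23 : Spor.M22 ≤ Spor.M23 := inf_le_left
theorem m22_le_m24 : Spor.M22 ≤ M24 := inf_le_left.trans inf_le_left

theorem Full.not_m22 {D : Set Spor.M22} [Finite Spor.M22] (F : Full D) : False := by
  have hz : pm Cfsg.Agent.KFacts.MM.Data.zP ∈ Spor.M22 := mem22 (by decide +kernel)
  obtain ⟨d, hd⟩ := F.ne
  obtain ⟨g, hg, e⟩ := Cfsg.Agent.KFacts.MM.InvM22.inv22 d d.2 (congrArg Subtype.val (F.toWC.sq hd))
    (fun h => F.toWC.ne_one hd (Subtype.ext h))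
  have hzD : (⟨_, hz⟩ : Spor.M22) ∈ D := by
    have := F.toWC.conj' hd ⟨g, hg⟩
    have e2 : (⟨g, hg⟩ : Spor.M22)⁻¹ * d * ⟨g, hg⟩ = ⟨_, hz⟩ := by
      apply Subtype.ext
      show g⁻¹ * (d : Equiv.Perm GolayPt) * g = _
      rw [e]
      group
    rwa [e2] at this
  exact F.toWC.false_of_chk chk22 hz (mem22 (by decide +kernel)) (mem22 (by decide +kernel)) hzD

theorem Full.not_m23 {D : Set Spor.M23} [Finite Spor.M23] (F : Full D) : False := by
  have hz : pm Cfsg.Agent.KFacts.MM.Data.zP ∈ Spor.M23 := m22_le_m23 (mem22 (by decide +kernel))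
  obtain ⟨d, hd⟩ := F.ne
  obtain ⟨g, hg, e⟩ := Cfsg.Agent.KFacts.MM.InvM22.inv23 d d.2 (congrArg Subtype.val (F.toWC.sq hd))
    (fun h => F.toWC.ne_one hd (Subtype.ext h))
  have hzD : (⟨_, hz⟩ : Spor.M23) ∈ D := by
    have := F.toWC.conj' hd ⟨g, hg⟩
    have e2 : (⟨g, hg⟩ : Spor.M23)⁻¹ * d * ⟨g, hg⟩ = ⟨_, hz⟩ := by
      apply Subtype.ext
      show g⁻¹ * (d : Equiv.Perm GolayPt) * g = _
      rw [e]
      group
    rwa [e2] at this
  exact F.toWC.false_of_chk chk22 hz (m22_le_m23 (mem22 (by decide +kernel)))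
    (m22_le_m23 (mem22 (by decide +kernel))) hzD

def gA : ℕ := 678184958020521298333281278360244306
def gAi : ℕ := 295274607780399541158536136480949445
def hA : ℕ := 26097333707585865524317578785755329
def hAi : ℕ := 592193566122761802501341917292970007
def gB : ℕ := 310673329765913232958530867447794856
def gBi : ℕ := 358894072802834773326330693516596846
def hB : ℕ := 925775866561961761172526218197880148
def hBi : ℕ := 487102437522788905671666689082964356

theorem chkA : chkK Cfsg.Agent.J4.M24InvolData.P1 gA gAi hA hAi = true := by decide +kernel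
theorem chkB : chkK Cfsg.Agent.J4.M24InvolData.P2 gB gBi hB hBi = true := by decide +kernel

theorem mem24 {P : ℕ} (h : (isPerm P && isAut P) = true) : pm P ∈ M24 := by
  rw [Bool.and_eq_true] at h
  exact pm_mem_M24 h.1 h.2

theorem Full.not_m24 {D : Set M24} [Finite M24] (F : Full D) : False := by
  have key : ∀ P : ℕ, ok P = true → ∀ hz : pm P ∈ M24, (∃ d : M24, d ∈ D ∧ ∃ k : M24, k * d * k⁻¹ = el P) →
      (⟨pm P, hz⟩ : M24) ∈ D := by
    rintro P hP hz ⟨d, hd, k, e⟩
    have := F.conj d hd k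
    rw [e] at this
    have e2 : el P = (⟨pm P, hz⟩ : M24) := Subtype.ext (KFacts.MM.El.coe_el hP)
    rwa [e2] at this
  obtain ⟨d, hd⟩ := F.ne
  obtain ⟨k, h | h⟩ := Cfsg.Agent.J4.M24Invol.invol_conj d (F.toWC.sq hd) (F.toWC.ne_one hd)
  · have hz : pm Cfsg.Agent.J4.M24InvolData.P1 ∈ M24 := mem24 (by decide +kernel)
    exact F.toWC.false_of_chk chkA hz (mem24 (by decide +kernel)) (mem24 (by decide +kernel))
      (key _ (by decide +kernel) hz ⟨d, hd, k, h⟩)
  · have hz : pm Cfsg.Agent.J4.M24InvolData.P2 ∈ M24 := mem24 (by decide +kernel)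
    exact F.toWC.false_of_chk chkB hz (mem24 (by decide +kernel)) (mem24 (by decide +kernel))
      (key _ (by decide +kernel) hz ⟨d, hd, k, h⟩)

/-! ### M12, M11 -/

/-- the indices of the dodecad -/
def ddI : List ℕ := [0, 1, 2, 3, 4, 6, 8, 9, 12, 13, 16, 18]

theorem idx_dd : ∀ p ∈ SporadicStructure.M11InvPerms.dd, idx p ∈ ddI := by decide +kernel

theorem pt_dd : ∀ i ∈ ddI, pt i ∈ SporadicStructure.M11InvPerms.dd := by decide +kernel

theorem ddI_lt : ∀ i ∈ ddI, i < 24 := by decide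

theorem mem12 {P : ℕ} (h : (isPerm P && isAut P && ddI.all fun i => ddI.contains (papp P i)) = true) :
    pm P ∈ Spor.M12 := by
  rw [Bool.and_eq_true, Bool.and_eq_true, List.all_eq_true] at h
  obtain ⟨⟨h1, h2⟩, h3⟩ := h
  refine MTwelveType.SylowModel.mem_M12 (pm_mem_M24 h1 h2) fun p hp => ?_
  have h4 := idx_dd p hp
  have h5 := h3 _ h4
  rw [List.contains_iff_mem] at h5
  have h6 := pt_val (pm P) (idx p)
  rw [pt_idx, val_pm h1 (ddI_lt _ h4)] at h6
  rw [← h6]
  exact pt_dd _ h5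

def zA : ℕ := 234127864083396158983920601914215425
def zB : ℕ := 901822624050718589173479847775838633
def kA : ℕ := 318974459434952482091248074597122194
def kAi : ℕ := 886185933681573571899441341172823177
def lA : ℕ := 430613505049618663131951706263654672
def lAi : ℕ := 886881885154370302215434308808155568
def kB : ℕ := 606835177639690057615559401871115648
def kBi : ℕ := 645615339056853809437713058510286912
def lB : ℕ := 978042165685801780183040187471896656
def lBi : ℕ := 968994199405362518602058091778409734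

theorem chk12A : chkK zA kA kAi lA lAi = true := by decide +kernel
theorem chk12B : chkK zB kB kBi lB lBi = true := by decide +kernel

theorem pm_zA : pm zA = CoThreeStd.MTwelve.pY := by
  apply ext_val
  intro i hi
  rw [val_pm (by decide +kernel) hi]
  have h : ∀ i < 24, papp zA i = idx (CoThreeStd.MTwelve.pY (pt i)) := by decide +kernel
  exact h i hi

theorem pm_zB : pm zB = CoThreeStd.MTwelve.pP * CoThreeStd.MTwelve.pR := by
  apply ext_val
  intro i hi
  rw [val_pm (by decide +kernel) hi]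
  have h : ∀ i < 24, papp zB i = idx (CoThreeStd.MTwelve.pP (CoThreeStd.MTwelve.pR (pt i))) := by decide +kernel
  exact h i hi

theorem Full.not_m12 {D : Set Spor.M12} [Finite Spor.M12] (F : Full D) : False := by
  obtain ⟨d, hd⟩ := F.ne
  rcases CoThreeStd.MTwelve.inv_class d (F.toWC.ne_one hd) (F.toWC.sq hd) with ⟨m, hm⟩ | ⟨m, hm⟩
  · have hz : pm zA ∈ Spor.M12 := mem12 (by decide +kernel)
    have hzD : (⟨pm zA, hz⟩ : Spor.M12) ∈ D := by
      have h1 := F.conj d hd m
      rw [← hm] at h1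
      have e : m * (m⁻¹ * CoThreeStd.MTwelve.y * m) * m⁻¹ = ⟨pm zA, hz⟩ := by
        have : m * (m⁻¹ * CoThreeStd.MTwelve.y * m) * m⁻¹ = CoThreeStd.MTwelve.y := by group
        rw [this]
        exact Subtype.ext pm_zA.symm
      rwa [e] at h1
    exact F.toWC.false_of_chk chk12A hz (mem12 (by decide +kernel)) (mem12 (by decide +kernel)) hzD
  · have hz : pm zB ∈ Spor.M12 := mem12 (by decide +kernel)
    have hzD : (⟨pm zB, hz⟩ : Spor.M12) ∈ D := by
      have h1 := F.conj d hd m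
      rw [← hm] at h1
      have e : m * (m⁻¹ * (CoThreeStd.MTwelve.p * CoThreeStd.MTwelve.r) * m) * m⁻¹ = ⟨pm zB, hz⟩ := by
        have : m * (m⁻¹ * (CoThreeStd.MTwelve.p * CoThreeStd.MTwelve.r) * m) * m⁻¹ =
            CoThreeStd.MTwelve.p * CoThreeStd.MTwelve.r := by group
        rw [this]
        exact Subtype.ext pm_zB.symm
      rwa [e] at h1
    exact F.toWC.false_of_chk chk12B hz (mem12 (by decide +kernel)) (mem12 (by decide +kernel)) hzD

theorem mem11 {P : ℕ} (h : (isPerm P && isAut P && ddI.all fun i => ddI.contains (papp P i)) = true)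
    (h0 : Nat.beq (papp P 0) 0 = true) : pm P ∈ Spor.M11 := by
  refine Subgroup.mem_inf.2 ⟨mem12 h, ?_⟩
  rw [MulAction.mem_stabilizer_iff]
  rw [Bool.and_eq_true, Bool.and_eq_true] at h
  have h5 := val_pm h.1.1 (i := 0) (by norm_num)
  rw [Nat.eq_of_beq_eq_true h0] at h5
  have h6 := pt_val (pm P) 0
  rw [h5] at h6
  exact h6.symm

def z11 : ℕ := 944576703234065857180591671912828960
def g11 : ℕ := 588666015799709542142499172744738048
def g11i : ℕ := 845271460760761011428629679212605568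
def h11 : ℕ := 304608338699912502776821253312547968
def h11i : ℕ := 588894185286539111729447584339673504

theorem chk11 : chkK z11 g11 g11i h11 h11i = true := by decide +kernel

theorem Full.not_m11 {D : Set Spor.M11} [Finite Spor.M11] (F : Full D) : False := by
  have hM : IsM11 Spor.M11 := Cfsg.Agent.Cit.Eleven.isM11 ⟨MulEquiv.refl _⟩
  obtain ⟨d, hd⟩ := F.ne
  have hz : pm z11 ∈ Spor.M11 := mem11 (by decide +kernel) (by decide +kernel)
  have hzz : (⟨pm z11, hz⟩ : Spor.M11) * ⟨pm z11, hz⟩ = 1 := by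
    apply Subtype.ext
    have h := pr_of_weq (l := [z11, z11]) (m := []) (by decide +kernel) (by decide +kernel) (by decide +kernel)
    simp only [pr_cons, pr_nil, mul_one] at h
    exact h
  have hz1 : (⟨pm z11, hz⟩ : Spor.M11) ≠ 1 := by
    intro h
    have h := pr_ne (l := [z11]) (m := []) (by decide +kernel) (by decide +kernel) (by decide +kernel)
    simp only [pr_cons, pr_nil, mul_one] at h
    exact h (congrArg Subtype.val ‹_›)
  have h2 : orderOf (⟨pm z11, hz⟩ : Spor.M11) = 2 := orderOf_eq_prime (by rw [pow_two, hzz]) hz1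
  obtain ⟨k, hk⟩ := isConj_iff.1 (SporadicA.M11Facts.isConj_involutions hM (F.inv d hd) h2)
  have hzD : (⟨pm z11, hz⟩ : Spor.M11) ∈ D := by
    rw [← hk]; exact F.conj d hd k
  exact F.toWC.false_of_chk chk11 hz (mem11 (by decide +kernel) (by decide +kernel))
    (mem11 (by decide +kernel) (by decide +kernel)) hzD

variable {G : Type*} [Group G] [Finite G] {D : Set G}

theorem Full.not_mathieu (F : Full D) : Spor.IsoM11 G ∨ Spor.IsoM12 G ∨ Spor.IsoM22 G ∨ Spor.IsoM23 G ∨ Spor.IsoM24 G →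
    False := by
  rintro (⟨⟨e⟩⟩ | ⟨⟨e⟩⟩ | ⟨⟨e⟩⟩ | ⟨⟨e⟩⟩ | ⟨⟨e⟩⟩)
  · exact (F.map_equiv e).not_m11
  · exact (F.map_equiv e).not_m12
  · exact (F.map_equiv e).not_m22
  · exact (F.map_equiv e).not_m23
  · exact (F.map_equiv e).not_m24

end Cfsg.Agent.H204.RI
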