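import Cfsg.Agent.H204.RI.RankOne
import Cfsg.Agent.H204.RI.LongMatU
import Cfsg.Agent.H204.RI.LongFold
import Cfsg.Agent.H204.RI.LongOrth
import Cfsg.Agent.OddHalf.LongSL.Rk

/-!
# Groups of Lie type in odd characteristic (helper204, for S3126)
-/

set_option autoImplicit false
set_option linter.unusedSectionVars false

namespace Cfsg.Agent.H204.RI

open Subgroup Cfsg Cfsg.Agent.OddHalf.LieOddFam

theorem Full.odd_cases {G : Type*} [Group G] [Finite G] {D : Set G} (F : Full D)
    (h : ∃ p : ℕ, p.Prime ∧ p ≠ 2 ∧ IsLieTypeChar p G) (ha : ¬ IsAlternating G) :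
    XL27 G ∨ ∃ (F : Type) (_ : Field F) (_ : Fintype F), Fintype.card F = 3 ^ 2 ∧ Nonempty (G ≃* PSU 3 F 3) := by
  rcases lieOdd_cases h ha with h | h | h | ⟨q, hq, h⟩
  · exact Or.inl h
  · exact (F.not_rank_one (Or.inl h)).elim
  · exact (F.not_rank_one (Or.inr h)).elim
  · by_cases h3 : q = 3
    · subst h3
      rcases h with h | h | h | h | h | h | h | h | h | h | h | h | h
      · exact (F.not_mat (Or.inl h)).elim
      · exact (F.not_mat (Or.inr h)).elim
      · exact Or.inr (F.unitary h)
      · exact (F.not_orth (Or.inl h)).elim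
      · exact (F.not_orth (Or.inr (Or.inl h))).elim
      · exact (F.not_orth (Or.inr (Or.inr h))).elim
      · exact (F.not_chev (Or.inl h)).elim
      · exact (F.not_chev (Or.inr (Or.inl h))).elim
      · exact (F.not_chev (Or.inr (Or.inr (Or.inl h)))).elim
      · exact (F.not_chev (Or.inr (Or.inr (Or.inr (Or.inl h))))).elim
      · exact (F.not_chev (Or.inr (Or.inr (Or.inr (Or.inr h))))).elim
      · exact (F.not_fold (Or.inl h)).elim
      · exact (F.not_fold (Or.inr h)).elim
    · have h5 := hq.ne_four h3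
      exact (F.not_long (OddHalf.LongSL.hasLong_of_rk hq h) (by omega)).elim

end Cfsg.Agent.H204.RI
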