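import Cfsg.Agent.H204.RI.OddBig
import Cfsg.Agent.Lib.SubnormalJoin
import Cfsg.Agent.PLocal.SubnormalCore
import Cfsg.Agent.Cit.SLThreeMain

/-!
# Long `SL₂(3)` (helper204, for S3126)

* `Full.mem_of_long3` : if `J ≅ SL₂(3)` with involution `j` is subnormal in `C(j)`, then `j ∈ D`.
-/

set_option autoImplicit false
set_option linter.unusedSectionVars false

namespace Cfsg.Agent.H204.RI

open Subgroup
open scoped commutatorElement

/-! ### subnormality -/

/-- a product of a 2-element and an element of a subnormal subgroup `H`, of odd order, is in `H` -/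
theorem mem_of_subnormal {L : Type*} [Group L] {H : Subgroup L} (hs : H.IsSubnormal) {r h : L} (hh : h ∈ H)
    {k : ℕ} (hr : r ^ 2 ^ k = 1) {n : ℕ} (hn : Odd n) (hodd : (r * h) ^ n = 1) : r * h ∈ H := by
  induction hs with
  | top => exact mem_top _
  | step H K hle hK hN ih =>
    have h1 : r * h ∈ K := ih (hle hh)
    have h2 : r ∈ K := by
      have := K.mul_mem h1 (K.inv_mem (hle hh))
      rwa [mul_inv_cancel_right] at this
    have := hN
    let π := QuotientGroup.mk' (H.subgroupOf K)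
    have e1 : π ⟨h, hle hh⟩ = 1 := by
      rw [QuotientGroup.mk'_apply, QuotientGroup.eq_one_iff]; exact hh
    have e2 : π ⟨r * h, h1⟩ = π ⟨r, h2⟩ := by
      have : (⟨r * h, h1⟩ : K) = ⟨r, h2⟩ * ⟨h, hle hh⟩ := rfl
      rw [this, map_mul, e1, mul_one]
    have e3 : π ⟨r * h, h1⟩ ^ n = 1 := by
      rw [← map_pow]
      have : (⟨r * h, h1⟩ : K) ^ n = 1 := Subtype.ext hodd
      rw [this, map_one]
    have e4 : π ⟨r * h, h1⟩ ^ 2 ^ k = 1 := by
      rw [e2, ← map_pow]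
      have : (⟨r, h2⟩ : K) ^ 2 ^ k = 1 := Subtype.ext hr
      rw [this, map_one]
    have e5 := Nat.dvd_gcd (orderOf_dvd_of_pow_eq_one e3) (orderOf_dvd_of_pow_eq_one e4)
    rw [Nat.Coprime.pow_right _ (Nat.coprime_two_right.2 hn), Nat.dvd_one, orderOf_eq_one_iff,
      QuotientGroup.mk'_apply, QuotientGroup.eq_one_iff] at e5
    exact e5

/-- the action of an element `a` on a quaternion group `T` with involution `j` -/
structure QA {X : Type*} [Group X] (T : Subgroup X) (a j : X) : Prop where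
  two : IsPGroup 2 T
  norm : ∀ t ∈ T, a * t * a⁻¹ ∈ T
  jT : j ∈ T
  dich : ∀ x ∈ T, x = 1 ∨ x = j ∨ ⁅x, a * x * a⁻¹⁆ = j
  gen : ∀ x ∈ T, ∃ s ∈ T, ∃ t ∈ T, x = s * (a * s⁻¹ * a⁻¹) * (t * (a * t⁻¹ * a⁻¹))

theorem QA.congr {X : Type*} [Group X] {T : Subgroup X} {a a' j : X} (h : QA T a j)
    (ha : ∀ t ∈ T, a' * t * a'⁻¹ = a * t * a⁻¹) : QA T a' j where
  two := h.two
  norm := fun t ht => by rw [ha t ht]; exact h.norm t ht
  jT := h.jT
  dich := fun x hx => by rw [ha x hx]; exact h.dich x hx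
  gen := fun x hx => by
    obtain ⟨s, hs, t, ht, e⟩ := h.gen x hx
    exact ⟨s, hs, t, ht, by rw [ha _ (inv_mem hs), ha _ (inv_mem ht)]; exact e⟩

theorem QA.map {X Y : Type*} [Group X] [Group Y] {T : Subgroup X} {a j : X} (h : QA T a j) (f : X →* Y) :
    QA (T.map f) (f a) (f j) where
  two := h.two.map f
  norm := by
    rintro _ ⟨t, ht, rfl⟩
    exact ⟨_, h.norm t ht, by rw [map_mul, map_mul, map_inv]⟩
  jT := ⟨j, h.jT, rfl⟩
  dich := by
    rintro _ ⟨x, hx, rfl⟩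
    rcases h.dich x hx with rfl | rfl | hd
    · left; rw [map_one]
    · right; left; rfl
    · right; right
      rw [← hd, map_commutatorElement, map_mul, map_mul, map_inv]
  gen := by
    rintro _ ⟨x, hx, rfl⟩
    obtain ⟨s, hs, t, ht, e⟩ := h.gen x hx
    refine ⟨_, ⟨s, hs, rfl⟩, _, ⟨t, ht, rfl⟩, ?_⟩
    conv_lhs => rw [e]
    simp only [map_mul, map_inv]

/-! ### the main argument -/

/-- the main argument: `T` and an element `a` of odd order acting on it as on a quaternion group, in a subnormal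
subgroup `H` of `C(j)`, commuting with some `z ∈ D` -/
theorem Full.mem_of_QA {G : Type*} [Group G] {D : Set G} (F : Full D) [Finite G] {j : G} (hj : orderOf j = 2)
    {H : Subgroup (centralizer ({j} : Set G))} (hs : H.IsSubnormal) {T : Subgroup G}
    (hT : ∀ x : centralizer ({j} : Set G), x ∈ H → (∃ k, x ^ 2 ^ k = 1) → (x : G) ∈ T)
    (hTC : ∀ x ∈ T, x * j = j * x)
    {a : centralizer ({j} : Set G)} (haH : a ∈ H) (hao : Odd (orderOf a)) (hQ : QA T (a : G) j)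
    {z : G} (hz : z ∈ D) (hzT : ∀ t ∈ T, t * z = z * t) (hza : (a : G) * z = z * a) : j ∈ D := by
  have : Fact (Nat.Prime 2) := ⟨Nat.prime_two⟩
  by_contra hjD
  have hjj : j * j = 1 := by rw [← pow_two, ← hj, pow_orderOf_eq_one]
  have hj1 : j ≠ 1 := by rintro rfl; rw [orderOf_one] at hj; omega
  have haj : (a : G) * j = j * a := mem_centralizer_singleton_iff.1 a.2
  have hao' : Odd (orderOf (a : G)) := by rwa [Subgroup.orderOf_coe]
  -- the step
  have step : ∀ d ∈ D, (∀ t ∈ T, t * d = d * t) → (a : G) * d = d * a →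
      ∀ w ∈ Wc D d, (∀ t ∈ T, t * w = w * t) ∧ (a : G) * w = w * a := by
    intro d hd hTd had
    have hjd : j * d = d * j := hTd j hQ.jT
    -- (1)
    have h1 : ∀ x ∈ Wc D d, x ∈ T → x = 1 ∨ x = j := by
      intro x hxW hxT
      rcases hQ.dich x hxT with h | h | h
      · exact Or.inl h
      · exact Or.inr h
      · exfalso
        apply hjD
        refine F.toWC.der hd ?_ hj1
        rw [← h]
        exact commutator_mem_commutator hxW (F.toWC.conj_Wc had hxW)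
    -- (2)
    have h2 : ∀ r ∈ Wc D d, r * j = j * r → (a : G) * r = r * a := by
      intro r hr hrj
      let rC : centralizer ({j} : Set G) := ⟨r, mem_centralizer_singleton_iff.2 hrj⟩
      obtain ⟨k, hk⟩ := F.two d hd ⟨_, mul_mem hr (F.toWC.conj_Wc had (inv_mem hr))⟩
      have hk' : (r * ((a : G) * r⁻¹ * (a : G)⁻¹)) ^ 2 ^ k = 1 := congrArg Subtype.val hk
      have hk2 : (rC * (a * rC⁻¹ * a⁻¹)) ^ 2 ^ k = 1 := Subtype.ext hk'
      have e : rC * (a * rC⁻¹ * a⁻¹) * a = rC * a * rC⁻¹ := by group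
      have h3 : rC * (a * rC⁻¹ * a⁻¹) * a ∈ H := by
        refine mem_of_subnormal hs haH hk2 hao ?_
        rw [e, conj_pow, pow_orderOf_eq_one, mul_one, mul_inv_cancel]
      have h4 : rC * (a * rC⁻¹ * a⁻¹) ∈ H := by
        have := H.mul_mem h3 (H.inv_mem haH)
        rwa [mul_inv_cancel_right] at this
      have h5 := hT _ h4 ⟨k, hk2⟩
      have h6 : r * ((a : G) * r⁻¹ * (a : G)⁻¹) = 1 ∨ r * ((a : G) * r⁻¹ * (a : G)⁻¹) = j :=
        h1 _ (mul_mem hr (F.toWC.conj_Wc had (inv_mem hr))) h5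
      rcases h6 with h6 | h6
      · have h7 : r * ((a : G) * r⁻¹ * (a : G)⁻¹) * (a : G) * r = a * r := by rw [h6, one_mul]
        rw [← h7]; group
      · exfalso
        have h7' : r * (a : G) * r⁻¹ = r * ((a : G) * r⁻¹ * (a : G)⁻¹) * a := by group
        have h7 : r * (a : G) * r⁻¹ = j * a := h7'.trans (congrArg (fun y => y * (a : G)) h6)
        have h8 : (r * (a : G) * r⁻¹) ^ orderOf (a : G) = 1 := by
          rw [conj_pow, pow_orderOf_eq_one, mul_one, mul_inv_cancel]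
        rw [h7, (show Commute j (a : G) from haj.symm).mul_pow, pow_orderOf_eq_one, mul_one] at h8
        have h10 : Nat.gcd (orderOf (a : G)) 2 = 1 := Nat.coprime_two_right.2 hao'
        have h11 := Nat.dvd_gcd ((hj ▸ orderOf_dvd_of_pow_eq_one h8 : 2 ∣ orderOf (a : G))) (dvd_refl 2)
        rw [h10] at h11
        omega
    -- (3)
    have hnorm : ∀ c : G, c * d = d * c → c ∈ normalizer (Wc D d : Set G) := by
      intro c hc
      rw [mem_normalizer_iff]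
      intro q
      refine ⟨fun hq => F.toWC.conj_Wc hc hq, fun hq => ?_⟩
      have hc' : c⁻¹ * d = d * c⁻¹ := by rw [inv_mul_eq_iff_eq_mul, ← mul_assoc, hc, mul_inv_cancel_right]
      have := F.toWC.conj_Wc hc' hq
      rwa [show c⁻¹ * (c * q * c⁻¹) * c⁻¹⁻¹ = q by group] at this
    have h3 : zpowers (a : G) ≤ centralizer (Wc D d : Set G) := by
      refine Cfsg.Agent.Lib.ThompsonPQ.thompson_p_times_q 2 (zpowers j) (zpowers (a : G)) (Wc D d) ?_ ?_
        (F.two d hd) ?_ ?_ ?_ ?_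
      · refine IsPGroup.of_card (n := 1) ?_
        rw [Nat.card_zpowers, hj, pow_one]
      · rw [Nat.card_zpowers]
        exact Nat.coprime_two_right.2 hao'
      · rw [zpowers_le, mem_centralizer_iff]
        rintro w hw
        obtain ⟨k, rfl⟩ := mem_zpowers_iff.1 hw
        exact (show Commute (a : G) j from haj).zpow_left k
      · rw [zpowers_le]; exact hnorm j hjd
      · rw [zpowers_le]; exact hnorm _ had
      · intro u hu
        obtain ⟨hu1, hu2⟩ := mem_inf.1 hu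
        have huj : u * j = j * u := (mem_centralizer_iff.1 hu2 j (mem_zpowers j)).symm
        rw [mem_centralizer_iff]
        intro w hw
        obtain ⟨k, rfl⟩ := mem_zpowers_iff.1 hw
        exact (show Commute (a : G) u from h2 u hu1 huj).zpow_left k
    have h4 : ∀ w ∈ Wc D d, (a : G) * w = w * a := fun w hw =>
      (mem_centralizer_iff.1 (h3 (mem_zpowers _)) w hw).symm
    -- (4)
    have h5 : ∀ s ∈ T, ∀ w ∈ Wc D d, s * (a * s⁻¹ * (a : G)⁻¹) * w = w * (s * (a * s⁻¹ * (a : G)⁻¹)) := by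
      intro s hs w hw
      have hsd' : s⁻¹ * d = d * s⁻¹ := hTd _ (inv_mem hs)
      have hw1 : s⁻¹ * ((a : G)⁻¹ * w * a) * s ∈ Wc D d := by
        have h6 : (a : G)⁻¹ * w * a = w := by rw [mul_assoc, ← h4 w hw, inv_mul_cancel_left]
        rw [h6]
        have := F.toWC.conj_Wc hsd' hw
        rwa [inv_inv] at this
      have h7 := h4 _ hw1
      have h6 : (a : G)⁻¹ * w = w * (a : G)⁻¹ := by
        rw [inv_mul_eq_iff_eq_mul, ← mul_assoc, h4 w hw, mul_inv_cancel_right]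
      have h8 : s⁻¹ * w * s ∈ Wc D d := by
        have := F.toWC.conj_Wc hsd' hw
        rwa [inv_inv] at this
      have h9 := h4 _ h8
      calc s * (a * s⁻¹ * (a : G)⁻¹) * w = s * a * s⁻¹ * ((a : G)⁻¹ * w) := by group
        _ = s * (a * (s⁻¹ * w * s)) * s⁻¹ * (a : G)⁻¹ := by rw [h6]; group
        _ = s * ((s⁻¹ * w * s) * a) * s⁻¹ * (a : G)⁻¹ := by rw [h9]
        _ = w * (s * (a * s⁻¹ * (a : G)⁻¹)) := by group
    intro w hw
    refine ⟨fun t ht => ?_, h4 w hw⟩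
    obtain ⟨s, hs, u, hu, e⟩ := hQ.gen t ht
    rw [e, mul_assoc, h5 u hu w hw, ← mul_assoc, h5 s hs w hw, mul_assoc]
  have hall : ∀ d ∈ D, (∀ t ∈ T, t * d = d * t) ∧ (a : G) * d = d * a := by
    refine F.induct (P := fun d => (∀ t ∈ T, t * d = d * t) ∧ (a : G) * d = d * a) hz ⟨hzT, hza⟩ ?_
    intro d hd b hb hdb hP
    exact step d hd hP.1 hP.2 b (mem_Wc hb hdb.symm)
  have h1 : j = 1 := F.eq_one_of_comm fun d hd => (hall d hd).1 j hQ.jT
  exact hj1 h1

/-! ### the element `a'` -/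

section ex

variable {L : Type*} [Group L] [Finite L]

theorem odd_pow_three (k : ℕ) : Odd (3 ^ k) := (by decide : Odd 3).pow

/-- the join of `J` and a conjugate by an element centralizing `T` -/
theorem exists_sup {J T : Subgroup L} (hJ : J.IsSubnormal) (hTJ : T ≤ J) (hTn : ∀ x ∈ J, ∀ t ∈ T, x * t * x⁻¹ ∈ T)
    (h3 : ∀ x ∈ J, x ^ 3 ∈ T) {z : L} (hzT : ∀ t ∈ T, t * z = z * t) :
    ∃ H : Subgroup L, H.IsSubnormal ∧ J ≤ H ∧ (∀ x ∈ J, z * x * z⁻¹ ∈ H) ∧ ∀ x ∈ H, ∃ k, x ^ 3 ^ k ∈ T := by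
  have h3p : Fact (Nat.Prime 3) := ⟨Nat.prime_three⟩
  let J' : Subgroup L := J.map (MulAut.conj z).toMonoidHom
  have hJ' : J'.IsSubnormal := hJ.map (MulAut.conj z).surjective
  have hT' : ∀ t ∈ T, z * t * z⁻¹ = t := fun t ht => by rw [← hzT t ht, mul_inv_cancel_right]
  have hTn' : ∀ x ∈ J', ∀ t ∈ T, x * t * x⁻¹ ∈ T := by
    rintro _ ⟨x, hx, rfl⟩ t ht
    have h1 := hTn x hx t ht
    have e : (MulAut.conj z).toMonoidHom x * t * ((MulAut.conj z).toMonoidHom x)⁻¹ = x * t * x⁻¹ := by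
      show z * x * z⁻¹ * t * (z * x * z⁻¹)⁻¹ = x * t * x⁻¹
      have h2 : z⁻¹ * t * z = t := by rw [mul_assoc, hzT t ht, inv_mul_cancel_left]
      calc z * x * z⁻¹ * t * (z * x * z⁻¹)⁻¹ = z * (x * (z⁻¹ * t * z) * x⁻¹) * z⁻¹ := by group
        _ = z * (x * t * x⁻¹) * z⁻¹ := by rw [h2]
        _ = x * t * x⁻¹ := hT' _ h1
    rw [e]; exact h1
  have h3' : ∀ x ∈ J', x ^ 3 ∈ T := by
    rintro _ ⟨x, hx, rfl⟩
    rw [← map_pow]
    show z * x ^ 3 * z⁻¹ ∈ T
    rw [hT' _ (h3 x hx)]; exact h3 x hx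
  have hTJ' : T ≤ J' := fun t ht => ⟨t, hTJ ht, hT' t ht⟩
  refine ⟨J ⊔ J', Lib.SubnormalJoin.isSubnormal_sup hJ hJ', le_sup_left, fun x hx => ?_, ?_⟩
  · exact (le_sup_right : J' ≤ J ⊔ J') ⟨x, hx, rfl⟩
  set H := J ⊔ J' with hH
  have hnorm : ∀ {A : Subgroup L}, (∀ x ∈ A, ∀ t ∈ T, x * t * x⁻¹ ∈ T) → A ≤ normalizer (T : Set L) := by
    intro A hA x hx
    rw [mem_normalizer_iff]
    intro t
    refine ⟨fun ht => hA x hx t ht, fun ht => ?_⟩
    have := hA x⁻¹ (inv_mem hx) _ ht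
    rwa [show x⁻¹ * (x * t * x⁻¹) * x⁻¹⁻¹ = t by group] at this
  have hHN : H ≤ normalizer (T : Set L) := sup_le (hnorm hTn) (hnorm hTn')
  have hTH : T ≤ H := hTJ.trans le_sup_left
  have hTHn : (T.subgroupOf H).Normal := by
    constructor
    intro t ht g
    exact (mem_normalizer_iff.1 (hHN g.2) _).1 ht
  let π := QuotientGroup.mk' (T.subgroupOf H)
  have hcore : ∀ {A : Subgroup L}, A.IsSubnormal → A ≤ H → (∀ x ∈ A, x ^ 3 ∈ T) →
      (A.subgroupOf H).map π ≤ Cfsg.pCore 3 (H ⧸ T.subgroupOf H) := by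
    intro A hA hAH hA3
    refine PLocal.SubnormalCore.le_pCore_of_isSubnormal ((hA.subgroupOf).map (QuotientGroup.mk'_surjective _)) ?_
    rintro ⟨_, x, hx, rfl⟩
    refine ⟨1, Subtype.ext ?_⟩
    show π x ^ 3 ^ 1 = 1
    rw [pow_one, ← map_pow, QuotientGroup.mk'_apply, QuotientGroup.eq_one_iff]
    exact hA3 x hx
  have htop : Cfsg.pCore 3 (H ⧸ T.subgroupOf H) = ⊤ := by
    rw [eq_top_iff]
    have h1 : (⊤ : Subgroup H) = J.subgroupOf H ⊔ J'.subgroupOf H := by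
      rw [← Subgroup.subgroupOf_sup (le_sup_left) (le_sup_right)]
      exact (Subgroup.subgroupOf_self _).symm
    rw [← Subgroup.map_top_of_surjective π (QuotientGroup.mk'_surjective _), h1, Subgroup.map_sup]
    exact sup_le (hcore hJ le_sup_left h3) (hcore hJ' le_sup_right h3')
  intro x hx
  have h1 : π ⟨x, hx⟩ ∈ Cfsg.pCore 3 (H ⧸ T.subgroupOf H) := by rw [htop]; exact mem_top _
  obtain ⟨k, hk⟩ := (Lib.Cores.pCore_isPGroup 3 : IsPGroup 3 (Cfsg.pCore 3 (H ⧸ T.subgroupOf H))) ⟨_, h1⟩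
  have hk' : π ⟨x, hx⟩ ^ 3 ^ k = 1 := congrArg Subtype.val hk
  rw [← map_pow, QuotientGroup.mk'_apply, QuotientGroup.eq_one_iff] at hk'
  exact ⟨k, hk'⟩

/-- an element of odd order commuting with `z`, acting like `a` -/
theorem exists_elt {H T : Subgroup L} {a j z : L} (hT : ∀ x ∈ H, ∃ k, x ^ 3 ^ k ∈ T) (hTH : T ≤ H) (haH : a ∈ H)
    (haz : z * a * z⁻¹ ∈ H) (ha3 : a ^ 3 = 1) (hQ : QA T a j) (hjc : ∀ x : L, x * j = j * x) (hjj : j * j = 1)
    (hj1 : j ≠ 1) (hzz : z * z = 1) (hzT : ∀ t ∈ T, t * z = z * t) :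
    ∃ a' ∈ H, Odd (orderOf a') ∧ a' * z = z * a' ∧ ∀ t ∈ T, a' * t * a'⁻¹ = a * t * a⁻¹ := by
  have hzi : z⁻¹ = z := inv_eq_of_mul_eq_one_left hzz
  have hT' : ∀ t ∈ T, z * t * z⁻¹ = t := fun t ht => by rw [← hzT t ht, mul_inv_cancel_right]
  -- `c`
  set c := z * a * z⁻¹ * a⁻¹ with hc
  have hcH : c ∈ H := mul_mem haz (inv_mem haH)
  have ha' : ∀ t ∈ T, a⁻¹ * t * a ∈ T := by
    intro t ht
    have h1 := hQ.norm _ (hQ.norm t ht)
    have h2 : a⁻¹ = a * a := by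
      rw [← mul_left_inj a, inv_mul_cancel]
      rw [pow_succ, pow_two] at ha3; exact ha3.symm
    have e : a⁻¹ * t * a = a * (a * t * a⁻¹) * a⁻¹ := by
      have h3 : a⁻¹⁻¹ = (a * a)⁻¹ := by rw [h2]
      rw [inv_inv] at h3
      calc a⁻¹ * t * a = a * a * t * (a * a)⁻¹ := by rw [← h3, ← h2]
        _ = _ := by group
    rw [e]; exact h1
  have hcT : ∀ t ∈ T, c * t = t * c := by
    intro t ht
    have h1 := ha' t ht
    have h2 : a⁻¹ * t = a⁻¹ * t * a * a⁻¹ := by group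
    calc c * t = z * a * z⁻¹ * (a⁻¹ * t * a) * a⁻¹ := by rw [hc]; group
      _ = z * a * (z⁻¹ * (a⁻¹ * t * a)) * a⁻¹ := by group
      _ = z * a * ((a⁻¹ * t * a) * z⁻¹) * a⁻¹ := by rw [hzi, ← hzT _ h1]
      _ = z * t * a * z⁻¹ * a⁻¹ := by group
      _ = t * c := by rw [← hzT t ht, hc]; group
  have hzc : z * c * z⁻¹ = c⁻¹ := by
    rw [hc]
    calc z * (z * a * z⁻¹ * a⁻¹) * z⁻¹ = (z * z) * a * z⁻¹ * a⁻¹ * z⁻¹ := by group
      _ = a * z⁻¹ * a⁻¹ * z⁻¹ := by rw [hzz, one_mul]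
      _ = a * z * a⁻¹ * z⁻¹ := by rw [hzi]
      _ = (z * a * z⁻¹ * a⁻¹)⁻¹ := by group
  -- `c ^ N ∈ {1, j}`
  obtain ⟨k, hk⟩ := hT c hcH
  have hcN : c ^ 3 ^ k = 1 ∨ c ^ 3 ^ k = j := by
    rcases hQ.dich _ hk with h | h | h
    · exact Or.inl h
    · exact Or.inr h
    · exfalso
      apply hj1
      rw [← h]
      have h1 := hQ.norm _ hk
      rw [commutatorElement_eq_one_iff_mul_comm]
      exact ((show Commute c _ from hcT _ h1).pow_left (3 ^ k)).eq
  set c2 := c ^ 3 ^ k with hc2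
  have hc2c : ∀ x : L, x * c2 = c2 * x := by
    intro x
    rcases hcN with h | h
    · rw [h, mul_one, one_mul]
    · rw [h]; exact hjc x
  have hc22 : c2 * c2 = 1 := by
    rcases hcN with h | h
    · rw [h, mul_one]
    · rw [h]; exact hjj
  obtain ⟨m, hm⟩ := odd_pow_three k
  set b := c ^ (m + 1) with hb
  have hbb : b * b = c * c2 := by
    rw [hb, hc2, hm, ← pow_add, ← pow_succ']
    congr 1; ring
  have hzb : z * b * z⁻¹ = b⁻¹ := by
    rw [hb, ← inv_pow, ← hzc, conj_pow]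
  have hbH : b ∈ H := pow_mem hcH _
  have hbT : ∀ t ∈ T, b * t = t * b := fun t ht => ((show Commute c t from hcT t ht).pow_left _).eq
  set x := b * a with hx
  have hxH : x ∈ H := mul_mem hbH haH
  have hzx : z * x * z⁻¹ = c2 * x := by
    have e1 : z * a * z⁻¹ = c * a := by rw [hc]; group
    have e2 : c = b * b * c2 := by rw [hbb, mul_assoc, hc22, mul_one]
    calc z * x * z⁻¹ = (z * b * z⁻¹) * (z * a * z⁻¹) := by rw [hx]; group
      _ = b⁻¹ * (b * b * c2 * a) := by rw [hzb, e1, ← e2]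
      _ = b * c2 * a := by group
      _ = c2 * x := by rw [hc2c b, mul_assoc, hx]
  have hxT : ∀ t ∈ T, x * t * x⁻¹ = a * t * a⁻¹ := by
    intro t ht
    have h1 := hbT _ (hQ.norm t ht)
    calc x * t * x⁻¹ = b * (a * t * a⁻¹) * b⁻¹ := by rw [hx]; group
      _ = a * t * a⁻¹ := by rw [h1, mul_inv_cancel_right]
  -- the power
  obtain ⟨r, m', hm', hrm⟩ := Nat.exists_eq_two_pow_mul_odd (orderOf_pos x).ne'
  have hpow : ∀ (n : ℕ) (t : L), t ∈ T → x ^ n * t * (x ^ n)⁻¹ = a ^ n * t * (a ^ n)⁻¹ ∧ a ^ n * t * (a ^ n)⁻¹ ∈ T := by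
    intro n
    induction n with
    | zero => intro t ht; simp only [pow_zero, one_mul, inv_one, mul_one, true_and]; exact ht
    | succ n ih =>
      intro t ht
      obtain ⟨h1, h2⟩ := ih t ht
      have e1 : x ^ (n + 1) * t * (x ^ (n + 1))⁻¹ = x * (x ^ n * t * (x ^ n)⁻¹) * x⁻¹ := by rw [pow_succ']; group
      have e2 : a ^ (n + 1) * t * (a ^ (n + 1))⁻¹ = a * (a ^ n * t * (a ^ n)⁻¹) * a⁻¹ := by rw [pow_succ']; group
      rw [e1, e2, h1]
      exact ⟨hxT _ h2, hQ.norm _ h2⟩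
  have ha4 : ∀ n : ℕ, a ^ 4 ^ n = a := by
    intro n
    induction n with
    | zero => rw [pow_zero, pow_one]
    | succ n ih => rw [pow_succ, pow_mul, ih, show (4 : ℕ) = 3 + 1 from rfl, pow_succ, ha3, one_mul]
  refine ⟨x ^ 4 ^ (r + 1), pow_mem hxH _, ?_, ?_, ?_⟩
  · have h1 : orderOf (x ^ 4 ^ (r + 1)) ∣ m' := by
      apply orderOf_dvd_of_pow_eq_one
      rw [← pow_mul]
      have h2 : orderOf x ∣ 4 ^ (r + 1) * m' := by
        rw [hrm]
        refine mul_dvd_mul ?_ (dvd_refl _)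
        rw [show (4 : ℕ) = 2 ^ 2 from rfl, ← pow_mul]
        exact pow_dvd_pow _ (by omega)
      obtain ⟨u, hu⟩ := h2
      rw [hu, pow_mul, pow_orderOf_eq_one, one_pow]
    exact Odd.of_dvd_nat hm' h1
  · have h1 : z * x ^ 4 ^ (r + 1) * z⁻¹ = x ^ 4 ^ (r + 1) := by
      rw [← conj_pow, hzx, (show Commute c2 x from (hc2c x).symm).mul_pow]
      have h2 : c2 ^ 4 ^ (r + 1) = 1 := by
        have h3 : c2 ^ 4 = 1 := by
          rw [show (4 : ℕ) = 2 * 2 from rfl, pow_mul, pow_two c2, hc22, one_pow]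
        rw [pow_succ, mul_comm, pow_mul, h3, one_pow]
      rw [h2, one_mul]
    rw [mul_inv_eq_iff_eq_mul] at h1
    exact h1.symm
  · intro t ht
    rw [(hpow _ t ht).1, ha4]

end ex

/-! ### `SL(2,3)` -/

section sl

local notation "SL23" => Matrix.SpecialLinearGroup (Fin 2) (ZMod 3)
local notation "tt" => Cfsg.Agent.Transfer.SL23Recog.mt

theorem sl_mul : ∀ x y : SL23, x ^ 4 = 1 → y ^ 4 = 1 → (x * y) ^ 4 = 1 := by decide +kernel

theorem sl_cube : ∀ x : SL23, (x ^ 3) ^ 4 = 1 := by decide +kernel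

theorem sl_dich : ∀ x : SL23, x ^ 4 = 1 → x = 1 ∨ x = -1 ∨ x * (tt * x * tt⁻¹) * x⁻¹ * (tt * x * tt⁻¹)⁻¹ = -1 := by
  decide +kernel

theorem sl_gen : ∀ x : SL23, x ^ 4 = 1 → ∃ s : SL23, s ^ 4 = 1 ∧ ∃ t : SL23, t ^ 4 = 1 ∧
    x = s * (tt * s⁻¹ * tt⁻¹) * (t * (tt * t⁻¹ * tt⁻¹)) := by decide +kernel

theorem sl_mt : (tt : SL23) ^ 3 = 1 := by decide +kernel

/-- the normal Sylow 2-subgroup of `SL(2,3)` -/
def QT : Subgroup SL23 where
  carrier := {x | x ^ 4 = 1}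
  one_mem' := one_pow 4
  mul_mem' := fun {x y} hx hy => sl_mul x y hx hy
  inv_mem' := fun {x} hx => by
    show x⁻¹ ^ 4 = 1
    rw [inv_pow, show x ^ 4 = 1 from hx, inv_one]

theorem mem_QT {x : SL23} : x ∈ QT ↔ x ^ 4 = 1 := Iff.rfl

theorem qa_sl : QA QT (tt : SL23) (-1) where
  two := fun x => ⟨2, Subtype.ext x.2⟩
  norm := fun t ht => by rw [mem_QT, conj_pow, mem_QT.1 ht, mul_one, mul_inv_cancel]
  jT := by rw [mem_QT]; decide +kernel
  dich := fun x hx => by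
    rcases sl_dich x hx with h | h | h
    · exact Or.inl h
    · exact Or.inr (Or.inl h)
    · exact Or.inr (Or.inr h)
  gen := fun x hx => by
    obtain ⟨s, hs, t, ht, e⟩ := sl_gen x hx
    exact ⟨s, hs, t, ht, e⟩

theorem sl_neg : ∀ x : SL23, x * x = 1 → x = 1 ∨ x = -1 := by decide +kernel

end sl

/-- **the involution of a long `SL₂(3)` is in `D`** -/
theorem Full.mem_of_long3 {G : Type*} [Group G] {D : Set G} (F : Full D) [Finite G] {j : G} {J : Subgroup G}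
    (hj : orderOf j = 2) (hjJ : j ∈ J) (hJ : J ≤ centralizer ({j} : Set G))
    (hs : (J.subgroupOf (centralizer ({j} : Set G))).IsSubnormal) {K : Type} [Field K] [Fintype K]
    (hK : Fintype.card K = 3) (e : ↥J ≃* Matrix.SpecialLinearGroup (Fin 2) K) : j ∈ D := by
  have : Fact (Nat.Prime 2) := ⟨Nat.prime_two⟩
  obtain ⟨e1⟩ := Cit.SLThreeMain.equiv_sl23 hK
  have hjj : j * j = 1 := by rw [← pow_two, ← hj, pow_orderOf_eq_one]
  have hj1 : j ≠ 1 := by rintro rfl; rw [orderOf_one] at hj; omega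
  -- the embedding of `SL(2,3)` in `C(j)`
  let φ : Matrix.SpecialLinearGroup (Fin 2) (ZMod 3) →* centralizer ({j} : Set G) :=
    (inclusion hJ).comp (e1.trans e.symm).toMonoidHom
  have hφi : Function.Injective φ := (inclusion_injective hJ).comp (e1.trans e.symm).injective
  have hφr : φ.range = J.subgroupOf (centralizer ({j} : Set G)) := by
    ext x
    constructor
    · rintro ⟨y, rfl⟩
      exact ((e1.trans e.symm) y).2
    · intro hx
      refine ⟨(e1.trans e.symm).symm ⟨x, hx⟩, Subtype.ext ?_⟩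
      show (((e1.trans e.symm) ((e1.trans e.symm).symm ⟨x, hx⟩) : J) : G) = x
      rw [MulEquiv.apply_symm_apply]
  have hjC : j ∈ centralizer ({j} : Set G) := hJ hjJ
  have hφj : φ (-1) = ⟨j, hjC⟩ := by
    have h1 : (⟨j, hjC⟩ : centralizer ({j} : Set G)) ∈ φ.range := by rw [hφr]; exact hjJ
    obtain ⟨y, hy⟩ := h1
    rcases sl_neg y (hφi (by rw [map_mul, hy, map_one]; exact Subtype.ext hjj)) with h2 | h2
    · exfalso
      rw [h2, map_one] at hy
      exact hj1 (congrArg Subtype.val hy).symm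
    · rw [← h2]; exact hy
  set T0 : Subgroup (centralizer ({j} : Set G)) := QT.map φ with hT0
  have hQ0 : QA T0 (φ Cfsg.Agent.Transfer.SL23Recog.mt) ⟨j, hjC⟩ := by
    have := qa_sl.map φ
    rwa [hφj] at this
  have hT0J : T0 ≤ φ.range := by rintro _ ⟨t, -, rfl⟩; exact ⟨t, rfl⟩
  have hT0n : ∀ x ∈ φ.range, ∀ t ∈ T0, x * t * x⁻¹ ∈ T0 := by
    rintro _ ⟨x, rfl⟩ _ ⟨t, ht, rfl⟩
    refine ⟨x * t * x⁻¹, ?_, by rw [map_mul, map_mul, map_inv]⟩
    show (x * t * x⁻¹) ^ 4 = 1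
    rw [conj_pow, show t ^ 4 = 1 from ht, mul_one, mul_inv_cancel]
  have hT03 : ∀ x ∈ φ.range, x ^ 3 ∈ T0 := by
    rintro _ ⟨x, rfl⟩
    exact ⟨x ^ 3, sl_cube x, map_pow _ _ _⟩
  have hsub : φ.range.IsSubnormal := by rw [hφr]; exact hs
  -- `z`
  obtain ⟨S0⟩ : Nonempty (Sylow 2 (centralizer ({j} : Set G))) := inferInstance
  obtain ⟨z, hz, hzj, hzc⟩ := F.exists_at hj S0
  have hT0S : T0 ≤ S0 := by
    have hT0s : T0.IsSubnormal := by
      refine IsSubnormal.step T0 φ.range hT0J hsub ⟨?_⟩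
      intro t ht g
      exact hT0n g g.2 t ht
    have h1 := PLocal.SubnormalCore.le_pCore_of_isSubnormal hT0s hQ0.two
    refine h1.trans ?_
    exact Lib.Cores.pCore_le_sylow S0
  set zC : centralizer ({j} : Set G) := ⟨z, mem_centralizer_singleton_iff.2 hzj⟩ with hzC
  have hzT : ∀ t ∈ T0, t * zC = zC * t := fun t ht => Subtype.ext (hzc t (hT0S ht))
  obtain ⟨H, hHs, hJH, hJz, hH3⟩ := exists_sup hsub hT0J hT0n hT03 hzT
  obtain ⟨a', ha'H, ha'o, ha'z, ha'T⟩ := exists_elt (a := φ Cfsg.Agent.Transfer.SL23Recog.mt) (j := ⟨j, hjC⟩) hH3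
    (hT0J.trans hJH) (hJH ⟨_, rfl⟩)
    (hJz _ ⟨_, rfl⟩) (by rw [← map_pow, sl_mt, map_one]) hQ0
    (fun x => Subtype.ext (mem_centralizer_singleton_iff.1 x.2)) (Subtype.ext hjj)
    (fun h => hj1 (congrArg Subtype.val h)) (Subtype.ext (F.sq hz)) hzT
  have hQ1 : QA (T0.map (centralizer ({j} : Set G)).subtype) (a' : G) j :=
    (hQ0.congr ha'T).map (centralizer ({j} : Set G)).subtype
  refine F.mem_of_QA hj hHs (T := T0.map (centralizer ({j} : Set G)).subtype) ?_ ?_ ha'H ha'o hQ1 hz ?_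
    (congrArg Subtype.val ha'z)
  · rintro x hx ⟨k, hk⟩
    obtain ⟨l, hl⟩ := hH3 x hx
    refine ⟨x, ?_, rfl⟩
    have hcop : Nat.Coprime (2 ^ k) (3 ^ l) := Nat.Coprime.pow _ _ (by norm_num)
    have h1 := Nat.gcd_eq_gcd_ab (2 ^ k) (3 ^ l)
    rw [hcop] at h1
    have h2 : x = (x ^ 3 ^ l) ^ (Nat.gcdB (2 ^ k) (3 ^ l)) := by
      have h3 : x ^ ((2 ^ k : ℕ) * Nat.gcdA (2 ^ k) (3 ^ l) + (3 ^ l : ℕ) * Nat.gcdB (2 ^ k) (3 ^ l) : ℤ) = x := by
        rw [← h1]; simp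
      conv_lhs => rw [← h3]
      rw [zpow_add, zpow_mul, zpow_natCast, hk, one_zpow, one_mul, zpow_mul, zpow_natCast]
    rw [h2]
    exact zpow_mem hl _
  · rintro _ ⟨x, -, rfl⟩
    exact mem_centralizer_singleton_iff.1 x.2
  · rintro _ ⟨t, ht, rfl⟩
    exact congrArg Subtype.val (hzT t ht)

end Cfsg.Agent.H204.RI
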