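import Cfsg.Agent.H204.RI.Reduce

/-!
# Transport of `Full` (helper204, for S3126)
-/

set_option autoImplicit false

namespace Cfsg.Agent.H204.RI

open Subgroup

/-- transport by an isomorphism -/
theorem Full.map_equiv {G H : Type*} [Group G] [Group H] {D : Set G} (F : Full D) (e : G ≃* H) : Full (e '' D) where
  toWC := F.toWC.map_equiv e
  ne := F.ne.image _
  cls := by
    rintro _ ⟨a, ha, rfl⟩ _ ⟨b, hb, rfl⟩
    obtain ⟨g, hg⟩ := F.cls a ha b hb
    exact ⟨e g, by rw [← map_inv, ← map_mul, ← map_mul, hg]⟩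
  gen := by
    have h1 := congrArg (Subgroup.map e.toMonoidHom) F.gen
    rw [MonoidHom.map_closure, Subgroup.map_top_of_surjective _ e.surjective] at h1
    exact h1
  cen := by
    rw [eq_bot_iff]
    intro x hx
    have h1 : e.symm x ∈ center G := by
      rw [mem_center_iff] at hx ⊢
      intro g
      apply e.injective
      rw [map_mul, map_mul, e.apply_symm_apply]
      exact hx (e g)
    rw [F.cen, mem_bot] at h1
    rw [mem_bot, ← e.apply_symm_apply x, h1, map_one]
  conn := by
    rintro _ ⟨a, ha, rfl⟩ _ ⟨b, hb, rfl⟩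
    have h1 := F.conn a ha b hb
    induction h1 with
    | refl => exact Relation.ReflTransGen.refl
    | tail _ h2 ih =>
      obtain ⟨hx, hy, hne, hc⟩ := h2
      exact (ih hx).tail ⟨⟨_, hx, rfl⟩, ⟨_, hy, rfl⟩, fun h => hne (e.injective h), by rw [← map_mul, hc, map_mul]⟩
  syl := by
    intro S
    have h1 : IsPGroup 2 ((S : Subgroup H).comap e.toMonoidHom) := S.isPGroup'.comap_of_injective _ e.injective
    let S' : Sylow 2 G := ⟨(S : Subgroup H).comap e.toMonoidHom, h1, by
      intro Q hQ hle
      have h2 : IsPGroup 2 (Q.map e.toMonoidHom) := hQ.map _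
      have h3 := S.is_maximal' h2 (by
        intro x hx
        refine ⟨e.symm x, hle ?_, e.apply_symm_apply x⟩
        show e (e.symm x) ∈ (S : Subgroup H)
        rw [e.apply_symm_apply]; exact hx)
      rw [← h3]
      ext x
      constructor
      · intro hx
        exact ⟨x, hx, rfl⟩
      · rintro ⟨y, hy, hyx⟩
        rw [← e.injective hyx]; exact hy⟩
    obtain ⟨z, hz, hzS, hzc⟩ := F.syl S'
    refine ⟨e z, ⟨z, hz, rfl⟩, hzS, fun t ht => ?_⟩
    have h2 : e.symm t ∈ S' := by
      show e (e.symm t) ∈ (S : Subgroup H)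
      rw [e.apply_symm_apply]; exact ht
    have h3 := congrArg e (hzc _ h2)
    rwa [map_mul, map_mul, e.apply_symm_apply] at h3

end Cfsg.Agent.H204.RI
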