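import Cfsg.Agent.H204.RI.LongHom
import Cfsg.Agent.H204.RI.Trans
import Cfsg.Agent.OddHalf.LieOddFam
import Cfsg.Agent.Lib.PSL2Torus
import Cfsg.Agent.LieRecognition.ReeCent
import Cfsg.Agent.LieRecognition.ReePSL
import Cfsg.Agent.S1152
import Cfsg.Agent.S1157
import Cfsg.Agent.S1116

/-!
# `PSL₂(q)` (`q ≥ 11` odd) and the Ree groups (helper204, for S3126)
-/

set_option autoImplicit false
set_option linter.unusedSectionVars false

namespace Cfsg.Agent.H204.RI

open Subgroup Cfsg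
open scoped commutatorElement

variable {G : Type*} [Group G] {D : Set G}

/-- one class of involutions -/
def OneInv (G : Type*) [Group G] : Prop := ∀ s t : G, orderOf s = 2 → orderOf t = 2 → ∃ g : G, g * s * g⁻¹ = t

theorem OneInv.congr {G H : Type*} [Group G] [Group H] (e : G ≃* H) (h : OneInv H) : OneInv G := by
  intro s t hs ht
  obtain ⟨g, hg⟩ := h (e s) (e t) (by rwa [MulEquiv.orderOf_eq]) (by rwa [MulEquiv.orderOf_eq])
  refine ⟨e.symm g, e.injective ?_⟩
  rw [map_mul, map_mul, map_inv, e.apply_symm_apply, hg]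

theorem OneInv.of_base {G : Type*} [Group G] (a : G) (h : ∀ t : G, t * t = 1 → t ≠ 1 → ∃ g : G, g * a * g⁻¹ = t) :
    OneInv G := by
  intro s t hs ht
  have key : ∀ s : G, orderOf s = 2 → s * s = 1 ∧ s ≠ 1 := by
    intro s hs
    have h1 := pow_orderOf_eq_one s
    rw [hs, pow_two] at h1
    refine ⟨h1, ?_⟩
    rintro rfl
    rw [orderOf_one] at hs; omega
  obtain ⟨x, hx⟩ := h s (key s hs).1 (key s hs).2
  obtain ⟨y, hy⟩ := h t (key t ht).1 (key t ht).2
  refine ⟨y * x⁻¹, ?_⟩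
  rw [← hx, ← hy]
  group

theorem one_psl2 {F : Type*} [Field F] [Finite F] (h2 : (2 : F) ≠ 0)
    (e : G ≃* Matrix.ProjectiveSpecialLinearGroup (Fin 2) F) : OneInv G := by
  intro s t hs ht
  have key : ∀ s : G, orderOf s = 2 → s ≠ 1 ∧ s * s = 1 := by
    intro s hs
    have h1 := pow_orderOf_eq_one s
    rw [hs, pow_two] at h1
    refine ⟨?_, h1⟩
    rintro rfl
    rw [orderOf_one] at hs; omega
  exact Lib.PSL2Torus.conj_inv h2 e (key s hs).1 (key s hs).2 (key t ht).1 (key t ht).2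

theorem one_ree {F : Type*} [Field F] [Fintype F] {m : ℕ} (hm : 1 ≤ m)
    (hF : Fintype.card F = 3 ^ (2 * m + 1)) : OneInv ↥(Cfsg.Lie.twistedG2 F (3 ^ m)) := by
  have hchar := Cfsg.Agent.S1157.charP_three hF
  obtain ⟨a, haH, ha1, ha2⟩ := Cfsg.Agent.S1157.exists_involution hF
  obtain ⟨⟨e⟩, hS⟩ := Cfsg.Agent.S1152.result hF a haH ha1 ha2
  have hc := LieRecognition.ReeCent.centData ha1 ha2 e LieRecognition.ReePSL.klein
  exact OneInv.of_base a fun t ht ht1 =>
    LieRecognition.ReeInv.isConj_involution hc LieRecognition.ReePSL.klein (Cfsg.Agent.S1116.result hF hm) hS ht1 ht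

/-- an element inverted by `x ∈ D` -/
theorem WC.pow_four (h : WC D) {z x y : G} (hz : z ∈ D) (hx : x ∈ D) (hxz : x * z = z * x) (hxy : x * y ∈ D)
    (hyz : y * z = z * y) (hinv : x * y * x⁻¹ = y⁻¹) : y ^ 4 = 1 := by
  have h1 : x ∈ Wc D z := mem_Wc hx hxz
  have h2 : x * y ∈ Wc D z := mem_Wc hxy (by
    show x * y * z = z * (x * y)
    rw [mul_assoc, hyz, ← mul_assoc, hxz, mul_assoc])
  have h3 : y ∈ Wc D z := by
    have := mul_mem (inv_mem h1) h2
    rwa [inv_mul_cancel_left] at this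
  have e1 : ⁅y, x⁆ = y ^ 2 := by
    have : x * y⁻¹ * x⁻¹ = y := by
      have := congrArg (fun a => a⁻¹) hinv
      simpa [mul_assoc] using this
    rw [commutatorElement_def]
    calc y * x * y⁻¹ * x⁻¹ = y * (x * y⁻¹ * x⁻¹) := by group
      _ = y ^ 2 := by rw [this, pow_two]
  have h4 : y ^ 2 ∈ ⁅Wc D z, Wc D z⁆ := e1 ▸ commutator_mem_commutator h3 h1
  have h5 := h.comm_of_der hz h4 h1
  have h6 : x * y ^ 2 * x⁻¹ = (y ^ 2)⁻¹ := by
    rw [← conj_pow, hinv, inv_pow]
  rw [← h5, mul_inv_cancel_right] at h6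
  have : y ^ 4 = y ^ 2 * y ^ 2 := by rw [← pow_add]
  rw [this]
  nth_rewrite 1 [h6]
  exact inv_mul_cancel _

/-- `Full.one` : all involutions are in `D` -/
theorem Full.all_mem (F : Full D) (h : OneInv G) {t : G} (ht : orderOf t = 2) : t ∈ D := by
  obtain ⟨z, hz⟩ := F.ne
  obtain ⟨g, rfl⟩ := h z t (F.inv z hz) ht
  exact F.conj z hz g

theorem Full.not_torus (F : Full D) (h : OneInv G) {z x y : G} (hz : z ∈ D) (hxz : x * z = z * x)
    (hyz : y * z = z * y) (hx : orderOf x = 2) (hxy : orderOf (x * y) = 2) (hinv : x * y * x⁻¹ = y⁻¹)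
    (hy : 5 ≤ orderOf y) : False := by
  have h1 := F.toWC.pow_four hz (F.all_mem h hx) hxz (F.all_mem h hxy) hyz hinv
  have h2 := Nat.le_of_dvd (by norm_num) (orderOf_dvd_of_pow_eq_one h1)
  omega

/-- `PSL₂(q)`, `q ≥ 11` odd, in the centralizer of `z`, or the group itself -/
theorem Full.not_psl_cent [Finite G] (F : Full D) (h : OneInv G) {K : Type*} [Field K] [Finite K] (h2 : (2 : K) ≠ 0)
    (hK : 11 ≤ Nat.card K) {L : Type*} [Group L] (e : L ≃* Matrix.ProjectiveSpecialLinearGroup (Fin 2) K)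
    (φ : L →* G) (hφ : Function.Injective φ) {t : L} (ht1 : t ≠ 1) (ht : t * t = 1) {z : G} (hz : z ∈ D)
    (hc : ∀ x : L, x * t = t * x → φ x * z = z * φ x) : False := by
  obtain ⟨T, m, hT, hm⟩ := Lib.PSL2Torus.exists_torus h2 e ht1 ht
  have hm5 : 5 ≤ m := by rcases hm with ⟨_, h⟩ | ⟨_, h⟩ <;> omega
  obtain ⟨x, hxt, hxT⟩ := hT.ex
  have hcyc := hT.cyclic
  obtain ⟨y, hy⟩ := IsCyclic.exists_generator (α := T)
  have hyo : orderOf y = m := by rw [orderOf_eq_card_of_forall_mem_zpowers hy]; exact hT.card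
  obtain ⟨hx1, hxx, hxi⟩ := hT.out x hxt hxT
  have hyt := hT.comm y y.2
  have hxyt : x * (y : L) * t = t * (x * y) := by rw [mul_assoc, hyt, ← mul_assoc, hxt, mul_assoc]
  have hxyT : x * (y : L) ∉ T := fun h => hxT (by
    have := mul_mem h (inv_mem y.2)
    rwa [mul_inv_cancel_right] at this)
  obtain ⟨hxy1, hxyxy, -⟩ := hT.out _ hxyt hxyT
  have hord : ∀ a : L, a ≠ 1 → a * a = 1 → orderOf (φ a) = 2 := by
    intro a ha1 ha
    rw [orderOf_injective φ hφ]
    exact orderOf_eq_prime (by rw [pow_two, ha]) ha1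
  refine F.not_torus h hz (x := φ x) (y := φ y) (hc _ hxt) (hc _ hyt) (hord _ hx1 hxx) ?_ ?_ ?_
  · rw [← map_mul]; exact hord _ hxy1 hxyxy
  · rw [← map_inv, ← map_inv, ← map_mul, ← map_mul, hxi _ y.2]
  · rw [orderOf_injective φ hφ, Subgroup.orderOf_coe, hyo]
    exact hm5

theorem Full.not_rank_one [Finite G] (F : Full D) : OddHalf.LieOddFam.XL2Big G ∨ Lie.IsoRee G → False := by
  rintro (⟨K, _, _, ho, hK, ⟨e⟩⟩ | hR)
  · have h2 : (2 : K) ≠ 0 := SignalizersComponents.SLQuasisimple.two_ne_zero_of_odd ho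
    obtain ⟨z, hz⟩ := F.ne
    exact F.not_psl_cent (one_psl2 h2 e) h2 (by rw [Nat.card_eq_fintype_card]; exact hK) e (MonoidHom.id G)
      Function.injective_id (F.toWC.ne_one hz) (F.toWC.sq hz) hz fun x hx => hx
  · obtain ⟨K, _, _, m, hm, hK, ⟨f⟩⟩ := hR
    have hone : OneInv G := OneInv.congr f (one_ree hm hK)
    have : CharP K 3 := Cfsg.Agent.S1157.charP_three hK
    have h2 : (2 : K) ≠ 0 := by
      refine SignalizersComponents.SLQuasisimple.two_ne_zero_of_odd ?_
      rw [hK]; exact (by decide : Odd 3).pow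
    obtain ⟨a, haH, ha1, ha2⟩ := Cfsg.Agent.S1157.exists_involution hK
    obtain ⟨⟨e⟩, -⟩ := Cfsg.Agent.S1152.result hK a haH ha1 ha2
    -- `PSL₂(q)` in the centralizer of `f⁻¹ a`
    set z := f.symm a with hz
    have hz2 : orderOf z = 2 := by
      rw [hz, MulEquiv.orderOf_eq]
      exact orderOf_eq_prime (by rw [pow_two, ha2]) ha1
    have hzD := F.all_mem hone hz2
    let φ : Matrix.ProjectiveSpecialLinearGroup (Fin 2) K →* G :=
      f.symm.toMonoidHom.comp ((centralizer {a}).subtype.comp (e.symm.toMonoidHom.comp (MonoidHom.inr _ _)))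
    have hφ : Function.Injective φ := by
      refine f.symm.injective.comp ((subtype_injective _).comp (e.symm.injective.comp ?_))
      exact Prod.mk_right_injective 1
    have hφc : ∀ x, φ x * z = z * φ x := by
      intro x
      show f.symm (e.symm (1, x) : centralizer {a}) * f.symm a = f.symm a * f.symm (e.symm (1, x) : centralizer {a})
      rw [← map_mul, ← map_mul]
      congr 1
      exact mem_centralizer_singleton_iff.1 (e.symm (1, x) : centralizer {a}).2
    obtain ⟨t, ht1, ht'⟩ : ∃ t : Matrix.ProjectiveSpecialLinearGroup (Fin 2) K, t ≠ 1 ∧ t * t = 1 := by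
      obtain ⟨π, -, hk⟩ := Lib.PSL2Torus.exists_hom h2 (MulEquiv.refl (Matrix.ProjectiveSpecialLinearGroup (Fin 2) K))
      refine ⟨π (Lib.PSL2Torus.jm K), ?_, ?_⟩
      · intro h
        rcases (hk _).1 h with h | h
        · have h1 : (1 : K) = 0 := by
            have := congrArg (fun A : Matrix.SpecialLinearGroup (Fin 2) K => A.1 1 0) h
            exact this.trans (by simp)
          exact one_ne_zero h1
        · have h1 : (1 : K) = 0 := by
            have := congrArg (fun A : Matrix.SpecialLinearGroup (Fin 2) K => A.1 1 0) h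
            exact this.trans (by simp)
          exact one_ne_zero h1
      · rw [← map_mul, Lib.PSL2Torus.sq_of_tr (i := Lib.PSL2Torus.jm K) (by simp [Lib.PSL2Torus.jm_11, Lib.PSL2Torus.jm_00])]
        exact (hk _).2 (Or.inr rfl)
    exact F.not_psl_cent hone h2 (by
      rw [Nat.card_eq_fintype_card, hK]
      calc 11 ≤ 3 ^ 3 := by norm_num
        _ ≤ 3 ^ (2 * m + 1) := Nat.pow_le_pow_right (by norm_num) (by omega)) (MulEquiv.refl _) φ hφ ht1 ht' hzD
      fun x _ => hφc x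

end Cfsg.Agent.H204.RI
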