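import Cfsg.Agent.H204.RI.RankOne
import Cfsg.Agent.H204.RI.OddBig
import Cfsg.Agent.McLLyComp.FactsMT
import Cfsg.Agent.TypeM.FactsMcL
import Cfsg.Agent.TypeM.FactsLy
import Cfsg.Agent.KFacts.ON.OneClass
import Cfsg.Agent.KFacts.Co3.Sheet
import Cfsg.Agent.UGT.EndJ1.Data

/-!
# `J1`, `McL`, `Ly`, `ON`, `Co3` (helper204, for S3126)
-/

set_option autoImplicit false
set_option linter.unusedSectionVars false

namespace Cfsg.Agent.H204.RI

open Subgroup Cfsg

variable {G : Type*} [Group G] [Finite G] {D : Set G}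

theorem Full.not_quasi (F : Full D) {z : G} (hz : z ∈ D) (hq : IsQuasisimple (centralizer ({z} : Set G))) : False := by
  refine F.not_comp hz (t := z) (J := centralizer ({z} : Set G)) ?_ rfl
    (fun x hx => mem_centralizer_singleton_iff.1 hx) le_rfl ?_ hq
  · refine IsPGroup.of_card (n := 1) ?_
    rw [Nat.card_zpowers, F.inv z hz, pow_one]
  · rw [subgroupOf_self]
    exact Subgroup.IsSubnormal.top

/-- the kill by two involutions -/
theorem Full.not_pair (F : Full D) (h : OneInv G) {z a b : G} (hz : orderOf z = 2) (ha : orderOf a = 2)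
    (hb : orderOf b = 2) (haz : a * z = z * a) (hbz : b * z = z * b) {n : ℕ} (hn : Odd n) (hab : (a * b) ^ n = 1)
    (hne : a ≠ b) : False :=
  hne (F.toWC.eq_of_odd (F.all_mem h hz) (F.all_mem h ha) (F.all_mem h hb) haz hbz hn hab)

theorem Full.not_mt (F : Full D) {n : ℕ} (hn : 5 ≤ n) (L : TypeM.Two.MT n G) : False := by
  have hone : OneInv G := OneInv.of_base L.t fun t ht ht1 => L.one t ht ht1
  refine F.not_quasi (F.all_mem hone L.orderOf_t) (Intrinsic.TypesB.quasisimple_of_Cover L.K ?_)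
  rw [Fintype.card_fin]
  exact hn

theorem Full.not_co3 (F : Full D) (h : Spor.IsoCo3 G) : False := by
  obtain ⟨z, hz⟩ := KFacts.Co3.Sheet.exists_facts h
  obtain ⟨S, hzS, -, hS⟩ := hz.basic.syl
  obtain ⟨d, hd, hdS, hdc⟩ := F.syl S
  have hzD : z ∈ D := by
    rcases hS d hdS fun x hx => hdc x hx with h1 | h1
    · exact absurd h1 (F.toWC.ne_one hd)
    · rwa [← h1]
  exact F.not_quasi hzD hz.quasi

section ON

open Cfsg.Spor (ON)
open Cfsg.Spor.ON (Gen)
open Cfsg.Agent.SporadicB.ONHom Cfsg.Agent.SporadicB.ON45Word Cfsg.Agent.ONType Cfsg.Agent.ONType.TupRow Cfsg.Agent.KFacts.ON.OneClass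
open Cfsg.Agent.SporadicRecognition.CosetCert (ev ev_nil ev_cons ev_append)

set_option maxRecDepth 100000 in
theorem Full.not_on {D : Set ON} [Finite ON] (F : Full D) : False := by
  have hone : OneInv ON := OneInv.of_base (on .f) fun t ht ht1 => by
    obtain ⟨g, hg⟩ := isConj_iff.1 (one_class ht ht1).symm
    exact ⟨g, hg⟩
  have h1 : eqJ [7, 5] [5, 7] = true := by decide +kernel
  have h2 : eqJ [7, 6] [6, 7] = true := by decide +kernel
  have h3 : eqJ [5, 6, 5, 6, 5, 6] [] = true := by decide +kernel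
  have h4 : neJ [5] [6] = true := by decide +kernel
  have h5 : eqJ [5, 5] [] = true := by decide +kernel
  have h6 : eqJ [6, 6] [] = true := by decide +kernel
  have h7 : eqJ [7, 7] [] = true := by decide +kernel
  have h8 : neJ [5] [] = true := by decide +kernel
  have h9 : neJ [6] [] = true := by decide +kernel
  have h10 : neJ [7] [] = true := by decide +kernel
  have k1 := eqJ_spec hs h1
  have k2 := eqJ_spec hs h2
  have k3 := eqJ_spec hs h3
  have k4 := neJ_spec h4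
  have k5 := eqJ_spec hs h5
  have k6 := eqJ_spec hs h6
  have k7 := eqJ_spec hs h7
  have k8 := neJ_spec h8
  have k9 := neJ_spec h9
  have k10 := neJ_spec h10
  simp only [ev_cons, ev_nil, mul_one] at k1 k2 k3 k4 k5 k6 k7 k8 k9 k10
  have hord : ∀ x : ON, x * x = 1 → x ≠ 1 → orderOf x = 2 := fun x h1 h2 =>
    orderOf_eq_prime (by rw [pow_two, h1]) h2
  refine F.not_pair hone (hord _ k7 k10) (hord _ k5 k8) (hord _ k6 k9) k1.symm k2.symm (n := 3) (by decide) ?_ k4
  rw [← k3]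
  simp only [pow_succ, pow_zero, one_mul, mul_assoc]

end ON

section J1

open Cfsg.Agent.UGT.EndJ1.Data Cfsg.Agent.SporadicB.J1.Mat Cfsg.Agent.SporadicB.J1.Data
  Cfsg.Agent.SporadicB.J1.Main Cfsg.Spor

set_option maxRecDepth 100000 in
theorem Full.not_j1 {D : Set J1} [Finite J1] (F : Full D) : False := by
  have hone : OneInv J1 := by
    obtain ⟨E⟩ := Cfsg.Agent.UGT.EndJ1.Data.exists_dat
    exact OneInv.of_base E.t fun t ht ht1 => E.conj_t ht ht1
  have hord : ∀ x : J1, x * x = 1 → x ≠ 1 → orderOf x = 2 := fun x h1 h2 =>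
    orderOf_eq_prime (by rw [pow_two, h1]) h2
  have h2 := hord _ (e_sq 2) ((rep_e 2).ne Rep.one (by decide +kernel))
  have h1 := hord _ (e_sq 1) ((rep_e 1).ne Rep.one (by decide +kernel))
  have r := (rep_e 2).mul ((rep_c.mul (rep_e 2)).mul rep_ci)
  refine F.not_pair hone (z := e 1) (a := e 2) (b := c * e 2 * c⁻¹) h1 h2 ?_ e2_comm ?_ (n := 5) (by decide) ?_ ?_
  · rw [← h2]
    exact (MulAut.conj c).orderOf_eq (e 2)
  · have hc : c⁻¹ * e 1 = e 1 * c⁻¹ := by
      rw [inv_mul_eq_iff_eq_mul, ← mul_assoc, c_comm, mul_inv_cancel_right]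
    calc c * e 2 * c⁻¹ * e 1 = c * e 2 * (c⁻¹ * e 1) := by group
      _ = c * (e 2 * e 1) * c⁻¹ := by rw [hc]; group
      _ = c * e 1 * e 2 * c⁻¹ := by rw [e2_comm]; group
      _ = e 1 * (c * e 2 * c⁻¹) := by rw [c_comm]; group
  · have r5 : (e 2 * (c * e 2 * c⁻¹)) ^ 5 = 1 := by
      have : (e 2 * (c * e 2 * c⁻¹)) ^ 5 = (e 2 * (c * e 2 * c⁻¹)) * ((e 2 * (c * e 2 * c⁻¹)) * ((e 2 * (c * e 2 * c⁻¹)) *
          ((e 2 * (c * e 2 * c⁻¹)) * (e 2 * (c * e 2 * c⁻¹))))) := by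
        simp only [pow_succ, pow_zero, one_mul, mul_assoc]
      rw [this]
      exact (r.mul (r.mul (r.mul (r.mul r)))).eq Rep.one (by decide +kernel)
    exact r5
  · exact (rep_e 2).ne ((rep_c.mul (rep_e 2)).mul rep_ci) (by decide +kernel)

end J1

theorem Full.not_spor_C (F : Full D) : Spor.IsoJ1 G ∨ Spor.IsoMcL G ∨ Spor.IsoLy G ∨ Spor.IsoON G ∨ Spor.IsoCo3 G →
    False := by
  rintro (⟨⟨e⟩⟩ | h | h | ⟨⟨e⟩⟩ | h)
  · have : Finite Spor.J1 := Finite.of_equiv _ e.toEquiv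
    exact (F.map_equiv e).not_j1
  · obtain ⟨-, -, -, ⟨L⟩⟩ := Cfsg.Agent.TypeM.FactsMcL.facts h
    exact F.not_mt (by norm_num) L
  · obtain ⟨-, -, -, ⟨L⟩⟩ := Cfsg.Agent.TypeM.FactsLy.facts h
    exact F.not_mt (by norm_num) L
  · have : Finite Spor.ON := Finite.of_equiv _ e.toEquiv
    exact (F.map_equiv e).not_on
  · exact F.not_co3 h

end Cfsg.Agent.H204.RI
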